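/-
Scalars of small index: the field lemmas for 2-groups with a soluble transitive group on involutions.
-/
import Cfsg.Agent.Lib.Chev.Suz2.Squares

set_option autoImplicit false

namespace CfsgLib.Chev.Suz2Gen

open CfsgLib.Chev.Suz2

/-! ### arithmetic -/

lemma small_le : ∀ n d : Fin 21, 0 < n.1 → n.1 % d.1 = 0 → (2 ^ n.1 - 1) % d.1 = 0 →
    d.1 ≤ 2 ^ ((n.1 + 3) / 4 - 1) ∨ (n.1 = 6 ∧ d.1 = 3) := by decide +kernel

lemma large_le (n : ℕ) (h : 21 ≤ n) : n ≤ 2 ^ ((n + 3) / 4 - 1) := by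
  induction n using Nat.strong_induction_on with
  | _ n ih =>
  rcases Nat.lt_or_ge n 25 with h' | h'
  · interval_cases n <;> norm_num
  · have h1 := ih (n - 4) (by omega) (by omega)
    rw [show (n + 3) / 4 - 1 = ((n - 4 + 3) / 4 - 1) + 1 by omega, pow_succ]
    omega

lemma six_three : ∀ a b e : Fin 6, (2 ^ a.1 + 2 ^ b.1) % 21 = 2 ^ e.1 % 21 →
    (2 ^ a.1 + 2 ^ b.1) % 63 = 2 ^ e.1 % 63 := by decide +kernel

lemma six_fix : ∀ a : Fin 6, 2 ^ a.1 % 21 = 1 % 21 → a.1 = 0 := by decide +kernel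

lemma six_sep : ∀ r s t : Fin 6, s.1 ≠ 0 →
    (2 ^ r.1 + 2 ^ t.1) % 21 = (1 + 2 ^ (s.1 + r.1)) % 21 → t.1 = s.1 := by decide +kernel

lemma six_pair : ∀ s t : Fin 6, s.1 ≠ 0 → t.1 ≠ 0 →
    (2 ^ t.1 + 2 ^ s.1) % 21 = (1 + 2 ^ (s.1 + t.1)) % 21 →
    (2 ^ s.1 + 2 ^ s.1 + 2 ^ s.1) % 21 = (1 + (2 ^ (s.1 + s.1) + 2 ^ (s.1 + s.1))) % 21 →
    (2 ^ t.1 + 2 ^ t.1 + 2 ^ t.1) % 21 = (1 + (2 ^ (t.1 + t.1) + 2 ^ (t.1 + t.1))) % 21 →
    (s.1 = 3 ∧ t.1 = 2) ∨ (s.1 = 2 ∧ t.1 = 3) := by decide +kernel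

/-- congruences between two sums of two powers of two lift from a divisor of small index -/
theorem lift_modEq {n m d : ℕ} (hn : 0 < n) (hmd : m * d = 2 ^ n - 1) (hdn : d ∣ n) (hsix : ¬(n = 6 ∧ d = 3)) (a b e g : ℕ)
    (ha : a < n) (hb : b < n) (he : e < n) (hg : g < n)
    (h : 2 ^ a + 2 ^ b ≡ 2 ^ e + 2 ^ g [MOD m]) :
    2 ^ a + 2 ^ b ≡ 2 ^ e + 2 ^ g [MOD 2 ^ n - 1] := by
  have hd_le := Nat.le_of_dvd hn hdn
  have hd' : d ∣ 2 ^ n - 1 := ⟨m, by rw [← hmd, mul_comm]⟩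
  have hd : d ≤ 2 ^ ((n + 3) / 4 - 1) := by
    rcases Nat.lt_or_ge n 21 with h' | h'
    · exact (small_le ⟨n, h'⟩ ⟨d, by omega⟩ hn (Nat.mod_eq_zero_of_dvd hdn) (Nat.mod_eq_zero_of_dvd hd')).resolve_right hsix
    · exact hd_le.trans (large_le n h')
  set G := (n + 3) / 4 with hG
  -- a rotation putting all four exponents below the top gap
  obtain ⟨t, -, ht⟩ : ∃ t ∈ Finset.range n, ∀ x ∈ ({a, b, e, g} : Finset ℕ), (x + t) % n ≤ n - G := by
    by_contra hne
    push Not at hne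
    have hsub : Finset.range n ⊆ (({a, b, e, g} : Finset ℕ) ×ˢ Finset.Icc (n - G + 1) (n - 1)).image
        (fun p => (p.2 + (n - p.1)) % n) := by
      intro t ht
      obtain ⟨x, hx, hx'⟩ := hne t ht
      rw [Finset.mem_range] at ht
      have hxn : x < n := by
        simp only [Finset.mem_insert, Finset.mem_singleton] at hx
        omega
      refine Finset.mem_image.2 ⟨(x, (x + t) % n), Finset.mem_product.2 ⟨hx, Finset.mem_Icc.2
        ⟨hx', by have := Nat.mod_lt (x + t) hn; omega⟩⟩, ?_⟩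
      show ((x + t) % n + (n - x)) % n = t
      rw [Nat.mod_add_mod, show x + t + (n - x) = t + n by omega, Nat.add_mod_right,
        Nat.mod_eq_of_lt ht]
    have h1 := (Finset.card_le_card hsub).trans Finset.card_image_le
    rw [Finset.card_range, Finset.card_product, Nat.card_Icc] at h1
    have h2 : ({a, b, e, g} : Finset ℕ).card ≤ 4 := Finset.card_le_four
    have h3 := h1.trans (Nat.mul_le_mul_right _ h2)
    omega
  have hN : (2 : ℤ) ^ n - 1 = ((2 ^ n - 1 : ℕ) : ℤ) := by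
    rw [Nat.cast_sub Nat.one_le_two_pow]; simp
  have hdX : ((2 : ℤ) ^ n - 1) ∣ (d : ℤ) * (2 ^ e + 2 ^ g - (2 ^ a + 2 ^ b)) := by
    obtain ⟨k, hk⟩ := Nat.modEq_iff_dvd.1 h
    push_cast at hk
    refine ⟨k, ?_⟩
    rw [hk, hN, ← hmd]
    push_cast; ring
  have hrot : ∀ x : ℕ, ((2 : ℤ) ^ n - 1) ∣ (2 : ℤ) ^ x * 2 ^ t - 2 ^ ((x + t) % n) := by
    intro x
    have h1 : (2 : ℤ) ^ x * 2 ^ t = 2 ^ ((x + t) % n) * ((2 : ℤ) ^ n) ^ ((x + t) / n) := by
      rw [← pow_add, ← pow_mul, ← pow_add, Nat.mod_add_div]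
    rw [h1, show (2 : ℤ) ^ ((x + t) % n) * ((2 : ℤ) ^ n) ^ ((x + t) / n) - 2 ^ ((x + t) % n) =
      2 ^ ((x + t) % n) * (((2 : ℤ) ^ n) ^ ((x + t) / n) - 1 ^ ((x + t) / n)) by ring]
    exact dvd_mul_of_dvd_right (sub_dvd_pow_sub_pow _ _ _) _
  set X' : ℤ := 2 ^ ((e + t) % n) + 2 ^ ((g + t) % n) - (2 ^ ((a + t) % n) + 2 ^ ((b + t) % n)) with hX'
  have hXX' : ((2 : ℤ) ^ n - 1) ∣ (2 ^ e + 2 ^ g - (2 ^ a + 2 ^ b)) * 2 ^ t - X' := by
    rw [hX']
    have := dvd_sub (dvd_add (hrot e) (hrot g)) (dvd_add (hrot a) (hrot b))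
    have he' : ((2 : ℤ) ^ e * 2 ^ t - 2 ^ ((e + t) % n) + (2 ^ g * 2 ^ t - 2 ^ ((g + t) % n)) -
        (2 ^ a * 2 ^ t - 2 ^ ((a + t) % n) + (2 ^ b * 2 ^ t - 2 ^ ((b + t) % n)))) =
        (2 ^ e + 2 ^ g - (2 ^ a + 2 ^ b)) * 2 ^ t -
          (2 ^ ((e + t) % n) + 2 ^ ((g + t) % n) - (2 ^ ((a + t) % n) + 2 ^ ((b + t) % n))) := by ring
    exact he' ▸ this
  have hdX' : ((2 : ℤ) ^ n - 1) ∣ (d : ℤ) * X' := by
    have := dvd_sub (dvd_mul_of_dvd_left hdX (2 ^ t)) (dvd_mul_of_dvd_right hXX' (d : ℤ))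
    have he' : ((d : ℤ) * (2 ^ e + 2 ^ g - (2 ^ a + 2 ^ b))) * 2 ^ t -
        (d : ℤ) * ((2 ^ e + 2 ^ g - (2 ^ a + 2 ^ b)) * 2 ^ t - X') = (d : ℤ) * X' := by ring
    exact he' ▸ this
  have hbd : ∀ x ∈ ({a, b, e, g} : Finset ℕ), (1 : ℤ) ≤ 2 ^ ((x + t) % n) ∧
      (2 : ℤ) ^ ((x + t) % n) ≤ 2 ^ (n - G) := fun x hx =>
    ⟨one_le_pow₀ (by norm_num), pow_le_pow_right₀ (by norm_num) (ht x hx)⟩
  obtain ⟨a1, a2⟩ := hbd a (by simp)
  obtain ⟨b1, b2⟩ := hbd b (by simp)
  obtain ⟨e1, e2⟩ := hbd e (by simp)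
  obtain ⟨g1, g2⟩ := hbd g (by simp)
  have hX0 : X' = 0 := by
    have hd1 : (1 : ℤ) ≤ d := by exact_mod_cast Nat.pos_of_dvd_of_pos hdn hn
    have habs : |X'| ≤ 2 * 2 ^ (n - G) - 2 := abs_le.2 ⟨by rw [hX']; linarith, by rw [hX']; linarith⟩
    have hlt : |(d : ℤ) * X'| < (2 : ℤ) ^ n - 1 := by
      rw [abs_mul, Nat.abs_cast]
      have h3 : (d : ℤ) * (2 * 2 ^ (n - G)) ≤ 2 ^ n := by
        have h4 : d * (2 * 2 ^ (n - G)) ≤ 2 ^ n := by
          refine (Nat.mul_le_mul_right _ hd).trans (le_of_eq ?_)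
          rw [← pow_succ', ← pow_add]
          congr 1
          omega
        exact_mod_cast h4
      nlinarith [mul_le_mul_of_nonneg_left habs (le_trans zero_le_one hd1)]
    have h5 := Int.eq_zero_of_abs_lt_dvd hdX' hlt
    exact (mul_eq_zero.1 h5).resolve_left (by omega)
  rw [hX0, sub_zero] at hXX'
  refine Nat.modEq_iff_dvd.2 ?_
  rw [← hN]
  push_cast
  refine (IsCoprime.dvd_of_dvd_mul_right ?_ hXX')
  have hcop : IsCoprime ((2 : ℤ) ^ n - 1) 2 :=
    ⟨-1, 2 ^ (n - 1), by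
      have : (2 : ℤ) ^ (n - 1) * 2 = 2 ^ n := by rw [← pow_succ, Nat.sub_add_cancel hn]
      linarith⟩
  exact hcop.pow_right

/-! ### good scalars -/

section field

variable {F : Type*} [Field F]

/-- products of two automorphisms agree at the scalar only if they agree everywhere -/
def Lift4 (c : F) : Prop :=
  ∀ σ τ ρ π : F ≃+* F, σ c * τ c = ρ c * π c → ∀ x, σ x * τ x = ρ x * π x

/-- a scalar which is nearly as general as a generator -/
structure Good (c : F) : Prop where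
  ne_zero : c ≠ 0
  lift3 : ∀ σ τ ρ : F ≃+* F, σ c * τ c = ρ c → ∀ x, σ x * τ x = ρ x
  fix_eq_one : ∀ σ : F ≃+* F, σ c = c → σ = 1
  sep : ∀ σ τ ρ : F ≃+* F, σ ≠ 1 → ρ (c / σ c) = c / τ c → τ = σ
  pair : ∀ σ τ : F ≃+* F, σ ≠ 1 → τ ≠ 1 → τ (c / σ c) = c / σ c → σ (c / τ c) = c / τ c →
    σ (c / σ c) * σ (c / σ c) = c / σ c → τ (c / τ c) * τ (c / τ c) = c / τ c →
    Nat.card F = 64 ∧ (((∀ x, σ x = x ^ 8) ∧ ∀ x, τ x = x ^ 4) ∨ ((∀ x, σ x = x ^ 4) ∧ ∀ x, τ x = x ^ 8))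

lemma exists_frob [Finite F] [CharP F 2] {n : ℕ} (hcard : Nat.card F = 2 ^ n) (σ : F ≃+* F) :
    ∃ i < n, ∀ x, σ x = x ^ 2 ^ i := by
  classical
  have := Fintype.ofFinite F
  haveI : Fact (Nat.Prime 2) := ⟨Nat.prime_two⟩
  let _ := ZMod.algebra F 2
  let s : F ≃ₐ[ZMod 2] F := AlgEquiv.ofRingEquiv (f := σ) fun x => by
    rcases Field.zmod_cases x with rfl | rfl <;> simp
  obtain ⟨⟨i, hi⟩, hs⟩ := (FiniteField.bijective_frobeniusAlgEquivOfAlgebraic_pow (ZMod 2) F).2 s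
  have hn : Module.finrank (ZMod 2) F = n := by
    refine Nat.pow_right_injective le_rfl ?_
    show 2 ^ _ = 2 ^ n
    rw [← hcard, Nat.card_eq_fintype_card, Module.card_eq_pow_finrank (K := ZMod 2), ZMod.card]
  refine ⟨i, hn ▸ hi, fun x => ?_⟩
  have := congrArg (fun f : F ≃ₐ[ZMod 2] F => f x) hs
  simp only [AlgEquiv.coe_pow, FiniteField.coe_frobeniusAlgEquivOfAlgebraic_iterate, ZMod.card] at this
  exact this.symm

variable [Finite F] [CharP F 2] {c : F}

omit [Finite F] in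
lemma sq_inj {x y : F} (h : x * x = y * y) : x = y :=
  CharTwo.add_eq_zero.1 (mul_self_eq_zero.1
    (show (x + y) * (x + y) = 0 by linear_combination h + (x * y + y * y) * CharTwo.two_eq_zero (R := F)))

lemma top_of_mul_invariant {a : F} (hfix : ∀ ρ : F ≃+* F, ρ a = a → ρ = 1) (V : AddSubgroup F)
    (hV : ∀ v ∈ V, a * v ∈ V) (hne : ∃ v ∈ V, v ≠ 0) : V = ⊤ := by
  classical
  let R : Subring F :=
    { carrier := {r | ∀ v ∈ V, r * v ∈ V}
      one_mem' := fun v hv => by rwa [one_mul]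
      mul_mem' := fun ha hb v hv => by rw [mul_assoc]; exact ha _ (hb v hv)
      zero_mem' := fun v _ => by rw [zero_mul]; exact zero_mem _
      add_mem' := fun ha hb v hv => by rw [add_mul]; exact add_mem (ha v hv) (hb v hv)
      neg_mem' := fun ha v hv => by rw [neg_mul]; exact neg_mem (ha v hv) }
  have := Fintype.ofFinite ↥R
  have := Fintype.ofFinite F
  letI := Fintype.fieldOfDomain ↥R
  haveI : CharP ↥R 2 := CharP.subring F 2 R
  obtain ⟨d, -, hd⟩ := FiniteField.card ↥R 2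
  have hfix' : ∀ r : ↥R, (r : F) ^ 2 ^ (d : ℕ) = r := fun r => by
    have := congrArg (Subtype.val) (FiniteField.pow_card r)
    rwa [hd, SubmonoidClass.coe_pow] at this
  haveI : Fact (Nat.Prime 2) := ⟨Nat.prime_two⟩
  haveI : PerfectRing F 2 := PerfectRing.ofSurjective F 2
    (Finite.surjective_of_injective (frobenius_inj F 2))
  have hρ1 : (iterateFrobeniusEquiv F 2 d : F ≃+* F) = 1 := hfix _ (by
    rw [iterateFrobeniusEquiv_apply, iterateFrobenius_def]
    exact hfix' ⟨a, hV⟩)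
  have hall : ∀ x : F, x ^ 2 ^ (d : ℕ) = x := fun x => by
    have := congrArg (fun e : F ≃+* F => e x) hρ1
    simp only [iterateFrobeniusEquiv_apply, iterateFrobenius_def] at this
    exact this
  have hcard : Fintype.card F ≤ 2 ^ (d : ℕ) := by
    have h2 : 1 < 2 ^ (d : ℕ) := Nat.one_lt_pow d.pos.ne' one_lt_two
    have hP0 := FiniteField.X_pow_card_sub_X_ne_zero (K' := F) h2
    have := Polynomial.card_le_degree_of_subset_roots
      (p := (Polynomial.X ^ 2 ^ (d : ℕ) - Polynomial.X : Polynomial F))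
      (Z := Finset.univ) (fun x _ => by
        rw [Polynomial.mem_roots hP0]
        simp [hall])
    rwa [FiniteField.X_pow_card_sub_X_natDegree_eq (K' := F) h2] at this
  have hsurj : Function.Surjective (Subtype.val : ↥R → F) := by
    refine ((Fintype.bijective_iff_injective_and_card _).2 ⟨Subtype.val_injective, ?_⟩).2
    exact le_antisymm (Fintype.card_le_of_injective _ Subtype.val_injective) (hd ▸ hcard)
  obtain ⟨v, hv, hv0⟩ := hne
  refine eq_top_iff.2 fun w _ => ?_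
  obtain ⟨r, hr⟩ := hsurj (w / v)
  have := r.2 v hv
  rwa [hr, div_mul_cancel₀ w hv0] at this

lemma aut_ratio (hc : Lift4 c) (hc0 : c ≠ 0) {σ τ ρ : F ≃+* F}
    (hσ : σ ≠ 1) (h : ρ (c / σ c) = c / τ c) : ρ = 1 ∧ τ = σ := by
  classical
  have := Fintype.ofFinite F
  have hx : ∀ x : F, ρ x * τ x = x * ρ (σ x) := by
    rw [map_div₀, div_eq_div_iff ((map_ne_zero _).2 ((map_ne_zero _).2 hc0))
      ((map_ne_zero _).2 hc0)] at h
    intro x
    exact hc ρ τ 1 (ρ * σ) h x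
  rcases eq_or_ne ρ 1 with rfl | hρ
  · refine ⟨rfl, RingEquiv.ext fun x => ?_⟩
    rcases eq_or_ne x 0 with rfl | hx0
    · simp
    · exact mul_left_cancel₀ hx0 (hx x)
  exfalso
  have hpol : ∀ x y : F, ρ x * τ y + ρ y * τ x = x * ρ (σ y) + y * ρ (σ x) := fun x y => by
    have := hx (x + y)
    simp only [map_add] at this
    linear_combination this - hx x - hx y
  rcases eq_or_ne τ ρ with e | hτ
  · rw [e] at hpol hx
    have h1 : ∀ x : F, ρ (σ x) = x := fun x => by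
      have := hpol x 1
      simp only [map_one, mul_one, one_mul] at this
      linear_combination -this + (ρ x - x) * CharTwo.two_eq_zero (R := F)
    apply hρ
    refine RingEquiv.ext fun x => ?_
    have := hx x
    rw [h1] at this
    have h3 : (ρ x + x) * (ρ x + x) = 0 := by
      linear_combination this + (ρ x * x + x * x) * CharTwo.two_eq_zero (R := F)
    exact CharTwo.add_eq_zero.1 (mul_self_eq_zero.1 h3)
  have := congrFun (coeff_unique (d := Pi.single ρ (1 : F) + Pi.single τ 1)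
    (d' := Pi.single 1 (1 : F) + Pi.single (ρ * σ) 1) (fun v => by
      have := hpol v 1
      simp only [map_one, mul_one, one_mul] at this
      simp only [Pi.add_apply, add_mul, Finset.sum_add_distrib, Pi.single_apply, ite_mul, zero_mul, one_mul,
        Finset.sum_ite_eq', Finset.mem_univ, if_true]
      exact this)) ρ
  have h' : ρ * σ ≠ ρ := fun e => hσ (mul_left_cancel (e.trans (mul_one ρ).symm))
  rw [Pi.add_apply, Pi.add_apply, Pi.single_eq_same, Pi.single_eq_of_ne hτ.symm, Pi.single_eq_of_ne hρ,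
    Pi.single_eq_of_ne h'.symm, add_zero, add_zero] at this
  exact one_ne_zero this

theorem good_of_lift4 (hc0 : c ≠ 0) (hc : Lift4 c) : Good c := by
  haveI : Fact (Nat.Prime 2) := ⟨Nat.prime_two⟩
  haveI : PerfectRing F 2 := PerfectRing.ofSurjective F 2
    (Finite.surjective_of_injective (frobenius_inj F 2))
  refine ⟨hc0, fun σ τ ρ h x => ?_, fun σ h => RingEquiv.ext fun x => ?_,
    fun σ τ ρ hσ h => (aut_ratio hc hc0 hσ h).2,
    fun σ τ hσ hτ h _ _ _ => absurd (aut_ratio hc hc0 (τ := σ) hσ h).1 hτ⟩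
  · have hπ : ∀ y, ((ρ.trans (frobeniusEquiv F 2).symm) y) * ((ρ.trans (frobeniusEquiv F 2).symm) y) = ρ y := by
      intro y
      rw [← pow_two, RingEquiv.trans_apply]
      exact frobeniusEquiv_symm_pow_p F 2 (ρ y)
    have := hc σ τ _ _ (h.trans (hπ c).symm) x
    rw [this, hπ]
  · have h1 := hc σ σ 1 1 (by simp [h]) x
    simp only [RingAut.one_apply] at h1 ⊢
    exact sq_inj h1

lemma pow_eq_of_modEq {n : ℕ} (hcard : Nat.card F = 2 ^ n) {a b : ℕ} (ha : a ≠ 0) (hb : b ≠ 0)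
    (h : a ≡ b [MOD 2 ^ n - 1]) (x : F) : x ^ a = x ^ b := by
  rcases eq_or_ne x 0 with rfl | hx
  · rw [zero_pow ha, zero_pow hb]
  have h'' := h.of_dvd (m := orderOf (Units.mk0 x hx)) (by
      have := orderOf_dvd_natCard (Units.mk0 x hx)
      rwa [Nat.card_units, hcard] at this)
  simpa using congrArg Units.val (pow_eq_pow_iff_modEq.2 h'')

omit [Finite F] [CharP F 2] in
lemma modEq_of_pow_eq (hc0 : c ≠ 0) {a b : ℕ} (h : c ^ a = c ^ b) : a ≡ b [MOD orderOf c] := by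
  have h' : a ≡ b [MOD orderOf (Units.mk0 c hc0)] := pow_eq_pow_iff_modEq.1 (Units.ext (by simpa using h))
  rwa [← orderOf_units, Units.val_mk0] at h'

theorem good_six (hcard : Nat.card F = 64) (hord : orderOf c = 21) : Good c := by
  have hcard' : Nat.card F = 2 ^ 6 := by rw [hcard]; norm_num
  have hc0 : c ≠ 0 := by rintro rfl; rw [orderOf_zero] at hord; omega
  have hm : ∀ {a b : ℕ}, c ^ a = c ^ b → a % 21 = b % 21 := fun h => by
    have := modEq_of_pow_eq hc0 h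
    rwa [hord] at this
  refine ⟨hc0, fun σ τ ρ h x => ?_, fun σ h => ?_, fun σ τ ρ hσ h => ?_, fun σ τ hσ hτ h1 _ h3 h4 => ?_⟩
  · obtain ⟨a, ha, hσ⟩ := exists_frob hcard' σ
    obtain ⟨b, hb, hτ⟩ := exists_frob hcard' τ
    obtain ⟨e, he, hρ⟩ := exists_frob hcard' ρ
    simp only [hσ, hτ, hρ, ← pow_add] at h ⊢
    exact pow_eq_of_modEq hcard' (by positivity) (by positivity) (six_three ⟨a, ha⟩ ⟨b, hb⟩ ⟨e, he⟩ (hm h)) x
  · obtain ⟨a, ha, hσ⟩ := exists_frob hcard' σ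
    rw [hσ] at h
    have : a = 0 := six_fix ⟨a, ha⟩ (hm (h.trans (pow_one c).symm))
    subst this
    exact RingEquiv.ext fun x => by simp [hσ]
  · obtain ⟨s, hs, hσ'⟩ := exists_frob hcard' σ
    obtain ⟨t, ht, hτ'⟩ := exists_frob hcard' τ
    obtain ⟨r, hr, hρ'⟩ := exists_frob hcard' ρ
    have hs0 : s ≠ 0 := fun e => hσ (RingEquiv.ext fun x => by simp [hσ', e])
    rw [map_div₀, div_eq_div_iff ((map_ne_zero _).2 ((map_ne_zero _).2 hc0)) ((map_ne_zero _).2 hc0)] at h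
    simp only [hσ', hτ', hρ', ← pow_mul, ← pow_add, ← pow_succ'] at h
    have := six_sep ⟨r, hr⟩ ⟨s, hs⟩ ⟨t, ht⟩ hs0 ((hm h).trans (by simp only [Nat.add_comm, Nat.add_left_comm, Nat.add_assoc]))
    simp only at this
    exact RingEquiv.ext fun x => by rw [hσ', hτ', this]
  · obtain ⟨s, hs, hσ'⟩ := exists_frob hcard' σ
    obtain ⟨t, ht, hτ'⟩ := exists_frob hcard' τ
    have hs0 : s ≠ 0 := fun e => hσ (RingEquiv.ext fun x => by simp [hσ', e])
    have ht0 : t ≠ 0 := fun e => hτ (RingEquiv.ext fun x => by simp [hτ', e])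
    have e1 : τ c * σ c = c * τ (σ c) := by
      rw [map_div₀, div_eq_div_iff ((map_ne_zero _).2 ((map_ne_zero _).2 hc0)) ((map_ne_zero _).2 hc0)] at h1
      exact h1
    have hsq : ∀ π : F ≃+* F, π (c / π c) * π (c / π c) = c / π c →
        π c * π c * π c = c * (π (π c) * π (π c)) := fun π hπ => by
      rw [map_div₀, div_mul_div_comm, div_eq_div_iff (by simp [hc0]) (by simp [hc0])] at hπ
      exact hπ
    have e3 := hsq σ h3
    have e4 := hsq τ h4
    simp only [hσ', hτ', ← pow_mul, ← pow_add] at e1 e3 e4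
    rw [← pow_succ'] at e1 e3 e4
    refine ⟨hcard, ?_⟩
    rcases six_pair ⟨s, hs⟩ ⟨t, ht⟩ hs0 ht0 ((hm e1).trans (by simp only [Nat.add_comm, Nat.add_left_comm, Nat.add_assoc]))
      ((hm e3).trans (by simp only [Nat.add_comm, Nat.add_left_comm, Nat.add_assoc])) ((hm e4).trans (by simp only [Nat.add_comm, Nat.add_left_comm, Nat.add_assoc])) with ⟨a, b⟩ | ⟨a, b⟩ <;>
      simp only at a b <;> subst a <;> subst b
    · exact Or.inl ⟨fun x => by rw [hσ']; norm_num, fun x => by rw [hτ']; norm_num⟩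
    · exact Or.inr ⟨fun x => by rw [hσ']; norm_num, fun x => by rw [hτ']; norm_num⟩

theorem good_of_orderOf {n d : ℕ} (hn : 0 < n) (hcard : Nat.card F = 2 ^ n)
    (hmd : orderOf c * d = 2 ^ n - 1) (hdn : d ∣ n) : Good c := by
  have hN : 0 < 2 ^ n - 1 := Nat.sub_pos_of_lt (Nat.one_lt_two_pow hn.ne')
  have hc0 : c ≠ 0 := by
    rintro rfl
    rw [orderOf_zero, zero_mul] at hmd
    omega
  by_cases hsix : n = 6 ∧ d = 3
  · obtain ⟨rfl, rfl⟩ := hsix
    exact good_six (by rw [hcard]; norm_num) (by norm_num at hmd; omega)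
  refine good_of_lift4 hc0 fun σ τ ρ π h x => ?_
  obtain ⟨a, ha, hσ⟩ := exists_frob hcard σ
  obtain ⟨b, hb, hτ⟩ := exists_frob hcard τ
  obtain ⟨e, he, hρ⟩ := exists_frob hcard ρ
  obtain ⟨g, hg, hπ⟩ := exists_frob hcard π
  simp only [hσ, hτ, hρ, hπ, ← pow_add] at h ⊢
  exact pow_eq_of_modEq hcard (by positivity) (by positivity)
    (lift_modEq hn hmd hdn hsix a b e g ha hb he hg (modEq_of_pow_eq hc0 h)) x

/-- a non-zero additive subgroup invariant under a good scalar is everything -/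
theorem Good.closed (hc : Good c) (V : AddSubgroup F) (hV : ∀ v ∈ V, c * v ∈ V)
    (hne : ∃ v ∈ V, v ≠ 0) : V = ⊤ :=
  top_of_mul_invariant (fun _ h => hc.fix_eq_one _ h) V hV hne

/-- an equivariant alternating form with values in the same module vanishes -/
theorem alternating_eq_zero (hc : Good c) (β : F → F → F)
    (hadd : ∀ u v w, β u (v + w) = β u v + β u w) (hadd' : ∀ u v w, β (u + v) w = β u w + β v w)
    (heq : ∀ u v, β (c * u) (c * v) = c * β u v) (halt : ∀ u, β u u = 0) (u v : F) : β u v = 0 := by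
  classical
  have := Fintype.ofFinite F
  let B : F →+ F →+ F := AddMonoidHom.mk' (fun u => AddMonoidHom.mk' (β u) (hadd u)) fun u v =>
    AddMonoidHom.ext fun w => hadd' u v w
  obtain ⟨co, hco⟩ := Field.exists_sum_aut₂ B
  replace hco : ∀ u v, β u v = ∑ p, co p * (p.1 u * p.2 v) := hco
  have hzero : ∀ p, co p * (p.1 c * p.2 c - c) = 0 := by
    rintro ⟨σ, τ⟩
    have key : ∀ u v, ∑ τ : F ≃+* F, (∑ σ : F ≃+* F, co (σ, τ) * (σ c * τ c - c) * σ u) * τ v =
        ∑ τ : F ≃+* F, (0 : F) * τ v := by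
      intro u v
      have h := heq u v
      rw [hco, hco, Finset.mul_sum, ← sub_eq_zero, ← Finset.sum_sub_distrib,
        Fintype.sum_prod_type_right] at h
      simp only [zero_mul, Finset.sum_const_zero]
      refine Eq.trans (Finset.sum_congr rfl fun τ _ => ?_) h
      rw [Finset.sum_mul]
      refine Finset.sum_congr rfl fun σ _ => ?_
      simp only [map_mul]
      ring
    have h2 : ∀ u, ∑ σ : F ≃+* F, co (σ, τ) * (σ c * τ c - c) * σ u = ∑ σ : F ≃+* F, (0 : F) * σ u :=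
      fun u => by
        simp only [zero_mul, Finset.sum_const_zero]
        exact congrFun (coeff_unique (key u)) τ
    exact congrFun (coeff_unique h2) σ
  have hscale : ∀ a u v, β (a * u) (a * v) = a * β u v := by
    intro a u v
    rw [hco, hco, Finset.mul_sum]
    refine Finset.sum_congr rfl fun p _ => ?_
    rcases mul_eq_zero.1 (hzero p) with h | h
    · simp [h]
    · have h1 := hc.lift3 p.1 p.2 1 (sub_eq_zero.1 h) a
      simp only [RingAut.one_apply] at h1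
      simp only [map_mul]
      linear_combination co p * p.1 u * p.2 v * h1
  obtain ⟨γ, hγ⟩ := IsCyclic.exists_generator (α := Fˣ)
  refine Suz2.alternating_eq_zero (c := (γ : F)) ?_ β hadd hadd' (fun u v => hscale γ u v) halt u v
  intro x hx
  obtain ⟨j, hj⟩ := (mem_powers_iff_mem_zpowers.2 (hγ (Units.mk0 x hx)))
  exact ⟨j, by simpa using (congrArg Units.val hj).symm⟩

/-- an invariant group of coefficient vectors contains the components of its members -/
theorem Good.project [Fintype (F ≃+* F)] [DecidableEq (F ≃+* F)] (hc : Good c) (D : AddSubgroup ((F ≃+* F) → F))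
    (hD : ∀ d ∈ D, (fun σ : F ≃+* F => c / σ c * d σ) ∈ D) {d : (F ≃+* F) → F} (hd : d ∈ D) (σ : F ≃+* F) :
    Pi.single σ (d σ) ∈ D := by
  classical
  haveI : Fact (Nat.Prime 2) := ⟨Nat.prime_two⟩
  let _ := ZMod.algebra F 2
  have := Fintype.ofFinite F
  set r : (F ≃+* F) → F := fun τ => c / τ c with hr
  let R : Subring ((F ≃+* F) → F) :=
    { carrier := {φ | ∀ e ∈ D, φ * e ∈ D}
      one_mem' := fun e he => by rwa [one_mul]
      mul_mem' := fun ha hb e he => by rw [mul_assoc]; exact ha _ (hb e he)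
      zero_mem' := fun e _ => by rw [zero_mul]; exact zero_mem _
      add_mem' := fun ha hb e he => by rw [add_mul]; exact add_mem (ha e he) (hb e he)
      neg_mem' := fun ha e he => by rw [neg_mul]; exact neg_mem (ha e he) }
  have hrR : r ∈ R := hD
  have haev : ∀ p : Polynomial (ZMod 2), Polynomial.aeval r p ∈ R := by
    intro p
    induction p using Polynomial.induction_on with
    | C a =>
      rcases Field.zmod_cases a with rfl | rfl
      · simp
      · simp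
    | add p q hp hq => rw [map_add]; exact add_mem hp hq
    | monomial k a h =>
      rw [pow_succ, ← mul_assoc, map_mul, Polynomial.aeval_X]
      exact mul_mem h hrR
  have hsep : ∀ τ, τ ≠ σ → Polynomial.aeval (r σ) (minpoly (ZMod 2) (r τ)) ≠ 0 := by
    intro τ hτ h0
    obtain ⟨ρ, hρ⟩ := minpoly.exists_algEquiv_of_root' (Algebra.IsAlgebraic.isAlgebraic (R := ZMod 2) (r τ)) h0
    have hρ' : ρ.toRingEquiv (c / τ c) = c / σ c := hρ
    by_cases hτ1 : τ = 1
    · subst hτ1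
      rw [RingAut.one_apply, div_self hc.ne_zero, map_one, eq_comm, div_eq_one_iff_eq ((map_ne_zero σ).2 hc.ne_zero),
        eq_comm] at hρ'
      exact hτ (hc.fix_eq_one σ hρ').symm
    · exact hτ (hc.sep τ σ _ hτ1 hρ').symm
  set φ := ∏ τ ∈ Finset.univ.erase σ, Polynomial.aeval r (minpoly (ZMod 2) (r τ)) with hφ
  have hφR : φ ∈ R := Subring.prod_mem _ fun τ _ => haev _
  have hval : ∀ τ ρ : F ≃+* F, Polynomial.aeval r (minpoly (ZMod 2) (r τ)) ρ =
      Polynomial.aeval (r ρ) (minpoly (ZMod 2) (r τ)) := fun τ ρ => Polynomial.aeval_pi_apply₂ _ _ _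
  have hφσ : φ σ ≠ 0 := by
    rw [hφ, Finset.prod_apply, Finset.prod_ne_zero_iff]
    intro τ hτ
    rw [hval]
    exact hsep τ (Finset.ne_of_mem_erase hτ)
  have hψ : φ ^ (Fintype.card F - 1) = Pi.single σ 1 := by
    funext τ
    rcases eq_or_ne τ σ with rfl | hτ
    · rw [Pi.pow_apply, Pi.single_eq_same, FiniteField.pow_card_sub_one_eq_one _ hφσ]
    · rw [Pi.pow_apply, Pi.single_eq_of_ne hτ]
      have h0 : φ τ = 0 := by
        rw [hφ, Finset.prod_apply]
        refine Finset.prod_eq_zero (Finset.mem_erase.2 ⟨hτ, Finset.mem_univ τ⟩) ?_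
        rw [hval]
        exact minpoly.aeval _ _
      rw [h0, zero_pow (by have := Fintype.one_lt_card (α := F); omega)]
  have h := pow_mem hφR (Fintype.card F - 1) d hd
  rw [hψ] at h
  convert h using 1
  funext τ
  rcases eq_or_ne τ σ with rfl | hτ
  · simp
  · simp [hτ]

end field

end CfsgLib.Chev.Suz2Gen
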