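/-
The centre of a 2-group with an irreducible automorphism on the involutions is elementary abelian.
-/
import Cfsg.Agent.Lib.Chev.Suz2Gen.Field

set_option autoImplicit false

namespace CfsgLib.Chev.Suz2Gen

open CfsgLib.Chev.Suz2 (cm mul_eq_mul_cm conj_eq_mul_cm cm_eq_one_iff map_cm cm_mul_left cm_mul_right sq_mul
  pow_two_succ center_mul_pow pow_apply_succ exists_restrict)

universe u

/-- coordinates on the involutions in which the automorphism is a scalar -/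
structure Coords {P : Type*} [Group P] {F : Type*} [Field F] (k : MulAut P) (j : P → F) (c : F) : Prop where
  add : ∀ a b, a * a = 1 → b * b = 1 → j (a * b) = j a + j b
  equiv : ∀ a, a * a = 1 → j (k a) = c * j a
  eq_one : ∀ a, a * a = 1 → j a = 0 → a = 1
  surj : ∀ v, ∃ a, a * a = 1 ∧ j a = v

lemma Coords.map_one {P : Type*} [Group P] {F : Type*} [Field F] {k : MulAut P} {j : P → F} {c : F}
    (hj : Coords k j c) : j 1 = 0 := by
  simpa using hj.add 1 1 (one_mul 1) (one_mul 1)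

/-- central involutions, and a good scalar on them -/
structure Irr {P : Type u} [Group P] (k : MulAut P) : Prop where
  central : ∀ x : P, x * x = 1 → x ∈ Subgroup.center P
  coord : ∃ (n : ℕ) (j : P → GaloisField 2 n) (c : GaloisField 2 n), Good c ∧ Coords k j c

lemma sq_mul_one {P : Type*} [Group P] (hcen : ∀ x : P, x * x = 1 → x ∈ Subgroup.center P) {a b : P}
    (ha : a * a = 1) (hb : b * b = 1) : a * b * (a * b) = 1 := by
  calc a * b * (a * b) = a * (b * a) * b := by group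
    _ = a * a * (b * b) := by rw [Subgroup.mem_center_iff.1 (hcen a ha) b]; group
    _ = 1 := by rw [ha, hb, one_mul]

lemma Coords.inj {P : Type*} [Group P] {F : Type*} [Field F] [CharP F 2] {k : MulAut P} {j : P → F} {c : F}
    (hj : Coords k j c) (hcen : ∀ x : P, x * x = 1 → x ∈ Subgroup.center P) (a b : P) (ha : a * a = 1)
    (hb : b * b = 1) (h : j a = j b) : a = b := by
  have h1 := hj.eq_one (a * b) (sq_mul_one hcen ha hb) (by rw [hj.add a b ha hb, h, CharTwo.add_self_eq_zero])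
  rw [eq_inv_of_mul_eq_one_left h1]
  exact inv_eq_of_mul_eq_one_left hb

lemma exists_involution {P : Type*} [Group P] (hP : IsPGroup 2 P) {H : Subgroup P} {a : P} (ha : a ∈ H)
    (ha1 : a ≠ 1) : ∃ t ∈ H, t * t = 1 ∧ t ≠ 1 := by
  classical
  have hex : ∃ i, a ^ 2 ^ i = 1 := hP a
  obtain ⟨i, hi⟩ : ∃ i, Nat.find hex = i + 1 := by
    refine ⟨Nat.find hex - 1, (Nat.succ_pred_eq_of_ne_zero fun e => ha1 ?_).symm⟩
    have := Nat.find_spec hex
    rwa [e, pow_zero, pow_one] at this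
  refine ⟨a ^ 2 ^ i, pow_mem ha _, ?_, Nat.find_min hex (by omega)⟩
  rw [← pow_add, ← two_mul, ← pow_succ', ← hi]
  exact Nat.find_spec hex

/-- the hypothesis passes to invariant non-trivial subgroups -/
theorem Irr.restrict {P : Type u} [Group P] {k : MulAut P} (hk : Irr k) (hP : IsPGroup 2 P)
    (H : Subgroup P) (hH : ∀ h ∈ H, k h ∈ H) (hne : ∃ a ∈ H, a ≠ 1) (kH : MulAut ↥H)
    (hkH : ∀ x : ↥H, (kH x : P) = k (x : P)) : Irr kH := by
  refine ⟨fun x hx => Subgroup.mem_center_iff.2 fun y => Subtype.ext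
    (Subgroup.mem_center_iff.1 (hk.central x (congrArg Subtype.val hx)) y), ?_⟩
  obtain ⟨n, j, c, hc, hj⟩ := hk.coord
  refine ⟨n, fun x => j x, c, hc, ⟨fun a b ha hb => hj.add _ _ (congrArg Subtype.val ha) (congrArg Subtype.val hb),
    fun a ha => ?_, fun a ha h => Subtype.ext (hj.eq_one _ (congrArg Subtype.val ha) h), ?_⟩⟩
  · simp only [hkH]
    exact hj.equiv _ (congrArg Subtype.val ha)
  · let V : AddSubgroup (GaloisField 2 n) :=
      { carrier := {v | ∃ a : P, a ∈ H ∧ a * a = 1 ∧ j a = v}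
        zero_mem' := ⟨1, one_mem _, one_mul 1, hj.map_one⟩
        add_mem' := by
          rintro _ _ ⟨x, hx, hx', rfl⟩ ⟨y, hy, hy', rfl⟩
          exact ⟨x * y, mul_mem hx hy, sq_mul_one hk.central hx' hy', hj.add x y hx' hy'⟩
        neg_mem' := by
          rintro _ ⟨x, hx, hx', rfl⟩
          exact ⟨x, hx, hx', (CharTwo.neg_eq _).symm⟩ }
    obtain ⟨a, ha, ha1⟩ := hne
    obtain ⟨t, ht, ht2, ht1⟩ := exists_involution hP ha ha1
    have hV := hc.closed V (by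
      rintro _ ⟨x, hx, hx', rfl⟩
      exact ⟨k x, hH x hx, by rw [← map_mul, hx', _root_.map_one], hj.equiv x hx'⟩)
      ⟨_, ⟨t, ht, ht2, rfl⟩, fun h => ht1 (hj.eq_one t ht2 h)⟩
    intro v
    obtain ⟨x, hx, hx', rfl⟩ : v ∈ V := hV ▸ AddSubgroup.mem_top v
    exact ⟨⟨x, hx⟩, Subtype.ext hx', rfl⟩

/-- vanishing of an equivariant alternating commutator pairing -/
theorem pairing_trivial {P : Type*} [Group P] {F : Type*} [Field F] [Finite F] [CharP F 2] {c : F}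
    (hc : Good c) (k : MulAut P) (Om : Subgroup P)
    (hOm : Om ≤ Subgroup.center P) (i : ↥Om → F) (hi : Function.Injective i)
    (hiadd : ∀ a b, i (a * b) = i a + i b)
    (hik : ∀ (a : P) (ha : a ∈ Om) (ha' : k a ∈ Om), i ⟨k a, ha'⟩ = c * i ⟨a, ha⟩)
    (A B : Subgroup P) (hAk : ∀ a ∈ A, k a ∈ A) (hBk : ∀ b ∈ B, k b ∈ B)
    (f g : P → F) (hf : ∀ a ∈ A, ∀ a' ∈ A, f (a * a') = f a + f a')
    (hg : ∀ b ∈ B, ∀ b' ∈ B, g (b * b') = g b + g b')
    (hfk : ∀ a ∈ A, f (k a) = c * f a) (hgk : ∀ b ∈ B, g (k b) = c * g b)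
    (hfs : ∀ v, ∃ a ∈ A, f a = v) (hgs : ∀ v, ∃ b ∈ B, g b = v)
    (hcm : ∀ a ∈ A, ∀ b ∈ B, cm a b ∈ Om)
    (hfker : ∀ a ∈ A, f a = 0 → ∀ b ∈ B, cm a b = 1)
    (hgker : ∀ b ∈ B, g b = 0 → ∀ a ∈ A, cm a b = 1)
    (halt : ∀ b ∈ B, ∃ a ∈ A, f a = g b ∧ cm a b = 1) :
    ∀ a ∈ A, ∀ b ∈ B, cm a b = 1 := by
  have hA : ∀ a ∈ A, ∀ a' ∈ A, f a = f a' → ∀ b ∈ B, cm a b = cm a' b := by
    intro a ha a' ha' e b hb
    have hm : a⁻¹ * a' ∈ A := mul_mem (inv_mem ha) ha'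
    have h0 : f (a⁻¹ * a') = 0 := by
      have := hf a ha _ hm
      rw [mul_inv_cancel_left, ← e] at this
      exact left_eq_add.1 this
    rw [← mul_inv_cancel_left a a', cm_mul_left (hOm (hcm a ha b hb)), hfker _ hm h0 b hb, mul_one]
  have hB : ∀ b ∈ B, ∀ b' ∈ B, g b = g b' → ∀ a ∈ A, cm a b = cm a b' := by
    intro b hb b' hb' e a ha
    have hm : b⁻¹ * b' ∈ B := mul_mem (inv_mem hb) hb'
    have h0 : g (b⁻¹ * b') = 0 := by
      have := hg b hb _ hm
      rw [mul_inv_cancel_left, ← e] at this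
      exact left_eq_add.1 this
    rw [← mul_inv_cancel_left b b', cm_mul_right (hOm (hcm a ha b hb)), hgker _ hm h0 a ha, one_mul]
  choose la hla hla' using hfs
  choose lb hlb hlb' using hgs
  set β : F → F → F := fun u v => i ⟨cm (la u) (lb v), hcm _ (hla u) _ (hlb v)⟩ with hβ
  have hβeq : ∀ a, ∀ ha : a ∈ A, ∀ b, ∀ hb : b ∈ B, β (f a) (g b) = i ⟨cm a b, hcm a ha b hb⟩ := by
    intro a ha b hb
    simp only [hβ]
    congr 1
    refine Subtype.ext ?_
    show cm (la (f a)) (lb (g b)) = cm a b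
    rw [hA _ (hla _) a ha (hla' _) _ (hlb _), hB _ (hlb _) b hb (hlb' _) a ha]
  have hzero : ∀ u v, β u v = 0 := by
    refine fun u v => alternating_eq_zero hc β ?_ ?_ ?_ ?_ u v
    · intro u v w
      have e := hβeq _ (hla u) _ (mul_mem (hlb v) (hlb w))
      rw [hla', hg _ (hlb v) _ (hlb w), hlb', hlb'] at e
      rw [e, hβ]
      rw [add_comm (i _), ← hiadd]
      congr 1
      exact Subtype.ext (cm_mul_right (hOm (hcm _ (hla u) _ (hlb v))))
    · intro u v w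
      have e := hβeq _ (mul_mem (hla u) (hla v)) _ (hlb w)
      rw [hlb', hf _ (hla u) _ (hla v), hla', hla'] at e
      rw [e, hβ]
      rw [← hiadd]
      congr 1
      exact Subtype.ext (cm_mul_left (hOm (hcm _ (hla u) _ (hlb w))))
    · intro u v
      have e := hβeq _ (hAk _ (hla u)) _ (hBk _ (hlb v))
      rw [hfk _ (hla u), hgk _ (hlb v), hla', hlb'] at e
      rw [e, hβ]
      have hm : k (cm (la u) (lb v)) ∈ Om := by
        rw [map_cm]; exact hcm _ (hAk _ (hla u)) _ (hBk _ (hlb v))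
      rw [← hik _ (hcm _ (hla u) _ (hlb v)) hm]
      congr 1
      exact Subtype.ext (map_cm k _ _).symm
    · intro u
      obtain ⟨a, ha, hfa, hab⟩ := halt _ (hlb u)
      have e := hβeq a ha _ (hlb u)
      rw [hfa, hlb'] at e
      rw [e]
      have h1 : i (1 : ↥Om) = 0 := by simpa using hiadd 1 1
      rw [← h1]
      congr 1
      exact Subtype.ext hab
  intro a ha b hb
  have h := hzero (f a) (g b)
  rw [hβeq a ha b hb] at h
  have h1 : i (1 : ↥Om) = 0 := by simpa using hiadd 1 1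
  exact congrArg Subtype.val (hi (h.trans h1.symm))

/-- the centre of a non-abelian 2-group with such an automorphism has exponent two -/
theorem center_elementary (N : ℕ) :
    ∀ (P : Type u) [Group P] [Finite P], Nat.card P ≤ N → IsPGroup 2 P →
      (∃ x y : P, x * y ≠ y * x) → ∀ k : MulAut P, Irr k →
      ∀ z ∈ Subgroup.center P, z * z = 1 := by
  classical
  induction N using Nat.strong_induction_on with
  | _ N ih =>
  intro P _ _ hcard hP hna k hk
  by_contra hbad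
  push Not at hbad
  obtain ⟨z₁, hz₁, hz₁'⟩ := hbad
  set Z := Subgroup.center P with hZdef
  have hZc : ∀ {z : P}, z ∈ Z → ∀ y, y * z = z * y := fun hz => Subgroup.mem_center_iff.1 hz
  have hex : ∃ e : ℕ, ∀ z ∈ Z, z ^ 2 ^ e = 1 := by
    obtain ⟨e, he⟩ := IsPGroup.iff_card.1 hP
    exact ⟨e, fun z _ => by rw [← he]; exact pow_card_eq_one'⟩
  set e := Nat.find hex with hedef
  have hexp : ∀ z ∈ Z, z ^ 2 ^ e = 1 := Nat.find_spec hex
  have he2 : 2 ≤ e := by
    by_contra hlt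
    have h := hexp z₁ hz₁
    interval_cases e
    · rw [pow_zero, pow_one] at h; exact hz₁' (by rw [h, one_mul])
    · rw [pow_one, pow_two] at h; exact hz₁' h
  obtain ⟨u₀, hu₀, hu₀'⟩ : ∃ u ∈ Z, u ^ 2 ^ (e - 1) ≠ 1 := by
    by_contra h
    push Not at h
    exact Nat.find_min hex (show e - 1 < e by omega) h
  have hkZ : ∀ {z : P} (i : ℕ), z ∈ Z → (k ^ i) z ∈ Z := fun {z} i hz =>
    Subgroup.mem_center_iff.2 fun y => by
      obtain ⟨y, rfl⟩ := (k ^ i).surjective y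
      rw [← map_mul, ← map_mul, hZc hz]
  have hk1 : ∀ {z : P}, z ∈ Z → k z ∈ Z := fun {z} hz => by simpa using hkZ 1 hz
  obtain ⟨n, j, c, hc, hj⟩ := hk.coord
  -- every involution is a power of a central element
  have ht0 : u₀ ^ 2 ^ (e - 1) * u₀ ^ 2 ^ (e - 1) = 1 := by
    rw [← pow_add, ← two_mul, ← pow_succ', show e - 1 + 1 = e by omega]; exact hexp _ hu₀
  have hpow2 : ∀ u ∈ Z, u ^ 2 ^ (e - 1) * u ^ 2 ^ (e - 1) = 1 := fun u hu => by
    rw [← pow_add, ← two_mul, ← pow_succ', show e - 1 + 1 = e by omega]; exact hexp _ hu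
  have hroot : ∀ t : P, t * t = 1 → ∃ u ∈ Z, u ^ 2 ^ (e - 1) = t := by
    let V : AddSubgroup (GaloisField 2 n) :=
      { carrier := {v | ∃ u ∈ Z, j (u ^ 2 ^ (e - 1)) = v}
        zero_mem' := ⟨1, one_mem _, by rw [one_pow]; exact hj.map_one⟩
        add_mem' := by
          rintro _ _ ⟨u, hu, rfl⟩ ⟨w, hw, rfl⟩
          exact ⟨u * w, mul_mem hu hw, by rw [center_mul_pow hw]; exact hj.add _ _ (hpow2 u hu) (hpow2 w hw)⟩
        neg_mem' := by
          rintro _ ⟨u, hu, rfl⟩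
          exact ⟨u, hu, (CharTwo.neg_eq _).symm⟩ }
    have hV := hc.closed V (by
      rintro _ ⟨u, hu, rfl⟩
      exact ⟨k u, hk1 hu, by rw [← map_pow]; exact hj.equiv _ (hpow2 u hu)⟩)
      ⟨_, ⟨u₀, hu₀, rfl⟩, fun h => hu₀' (hj.eq_one _ ht0 h)⟩
    intro t ht
    obtain ⟨u, hu, hu'⟩ : j t ∈ V := hV ▸ AddSubgroup.mem_top _
    exact ⟨u, hu, hj.inj hk.central _ _ (hpow2 u hu) ht hu'⟩
  have hcen2 : ∀ t : P, t * t = 1 → t ∈ Z := fun t ht => by
    obtain ⟨u, hu, rfl⟩ := hroot t ht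
    exact pow_mem hu _
  -- elements killed by `2 ^ e` are central
  have hcen : ∀ j ≤ e, ∀ d : P, d ^ 2 ^ j = 1 → d ∈ Z := by
    intro j
    induction j with
    | zero => intro _ d hd; rw [pow_zero, pow_one] at hd; rw [hd]; exact one_mem _
    | succ j ihj =>
      intro hj d hd
      obtain ⟨u, hu, hu'⟩ := hroot (d ^ 2 ^ j) (by rw [← pow_add, ← two_mul, ← pow_succ']; exact hd)
      have hu2 : (u ^ 2 ^ (e - 1 - j))⁻¹ ∈ Z := inv_mem (pow_mem hu _)
      have h := ihj (by omega) (d * (u ^ 2 ^ (e - 1 - j))⁻¹) (by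
        rw [center_mul_pow hu2, inv_pow, ← pow_mul, ← pow_add, show e - 1 - j + j = e - 1 by omega,
          hu', mul_inv_cancel])
      have := mul_mem h (pow_mem hu (2 ^ (e - 1 - j)))
      rwa [inv_mul_cancel_right] at this
  have hsq : ∀ j, j + 1 ≤ e → ∀ d ∈ Z, d ^ 2 ^ j = 1 → ∃ w ∈ Z, w * w = d := by
    intro j
    induction j with
    | zero => intro _ d _ hd; rw [pow_zero, pow_one] at hd; exact ⟨1, one_mem _, by rw [hd, one_mul]⟩
    | succ j ihj =>
      intro hj d hd hd'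
      obtain ⟨u, hu, hu'⟩ := hroot (d ^ 2 ^ j) (by rw [← pow_add, ← two_mul, ← pow_succ']; exact hd')
      have hu2 : (u ^ 2 ^ (e - 1 - j))⁻¹ ∈ Z := inv_mem (pow_mem hu _)
      obtain ⟨w, hw, hw'⟩ := ihj (by omega) (d * (u ^ 2 ^ (e - 1 - j))⁻¹) (mul_mem hd hu2) (by
        rw [center_mul_pow hu2, inv_pow, ← pow_mul, ← pow_add, show e - 1 - j + j = e - 1 by omega,
          hu', mul_inv_cancel])
      refine ⟨w * u ^ 2 ^ (e - 2 - j), mul_mem hw (pow_mem hu _), ?_⟩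
      calc w * u ^ 2 ^ (e - 2 - j) * (w * u ^ 2 ^ (e - 2 - j))
          = w * (u ^ 2 ^ (e - 2 - j) * w) * u ^ 2 ^ (e - 2 - j) := by group
        _ = w * w * (u ^ 2 ^ (e - 2 - j) * u ^ 2 ^ (e - 2 - j)) := by
            rw [hZc hw (u ^ 2 ^ (e - 2 - j))]; group
        _ = d := by
            rw [← pow_add, ← two_mul, ← pow_succ', show e - 2 - j + 1 = e - 1 - j by omega, hw',
              inv_mul_cancel_right]
  have hroot2 : ∀ x : P, x * x ∈ Z → (x * x) ^ 2 ^ (e - 1) = 1 → x ∈ Z := by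
    intro x hx hx'
    obtain ⟨w, hw, hw'⟩ := hsq (e - 1) (by omega) _ hx hx'
    have h : x * w⁻¹ ∈ Z := hcen2 _ (by
      calc x * w⁻¹ * (x * w⁻¹) = x * (w⁻¹ * x) * w⁻¹ := by group
        _ = x * (x * w⁻¹) * w⁻¹ := by rw [hZc (inv_mem hw) x]
        _ = x * x * (w * w)⁻¹ := by group
        _ = 1 := by rw [hw', mul_inv_cancel])
    have := mul_mem h hw
    rwa [inv_mul_cancel_right] at this
  -- the group of involutions
  let Om : Subgroup P :=
    { carrier := {t | t ∈ Z ∧ t * t = 1}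
      one_mem' := ⟨one_mem _, one_mul _⟩
      mul_mem' := fun {a b} ha hb => ⟨mul_mem ha.1 hb.1, by
        calc a * b * (a * b) = a * (b * a) * b := by group
          _ = a * a * (b * b) := by rw [hZc ha.1 b]; group
          _ = 1 := by rw [ha.2, hb.2, one_mul]⟩
      inv_mem' := fun {a} ha => ⟨inv_mem ha.1, by rw [← mul_inv_rev, ha.2, inv_one]⟩ }
  have hOmZ : Om ≤ Z := fun t ht => ht.1
  have hOmk : ∀ t ∈ Om, k t ∈ Om := fun t ht => ⟨hk1 ht.1, by rw [← map_mul, ht.2, map_one]⟩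
  have hOm_of : ∀ t : P, t * t = 1 → t ∈ Om := fun t ht => ⟨hcen2 t ht, ht⟩
  letI : CommGroup ↥Om :=
    { (inferInstance : Group ↥Om) with
      mul_comm := fun a b => Subtype.ext (hZc b.2.1 a) }
  have : Nontrivial ↥Om := ⟨⟨⟨_, hOm_of _ ht0⟩, 1, fun h => hu₀' (congrArg Subtype.val h)⟩⟩
  let i : ↥Om → GaloisField 2 n := fun a => j a
  have hibij : Function.Bijective i := ⟨fun a b h => Subtype.ext (hj.inj hk.central _ _ a.2.2 b.2.2 h),
    fun v => by
      obtain ⟨a, ha, rfl⟩ := hj.surj v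
      exact ⟨⟨a, hOm_of a ha⟩, rfl⟩⟩
  have hiadd : ∀ a b : ↥Om, i (a * b) = i a + i b := fun a b => hj.add _ _ a.2.2 b.2.2
  have hik : ∀ (a : P) (ha : a ∈ Om) (ha' : k a ∈ Om), i ⟨k a, ha'⟩ = c * i ⟨a, ha⟩ :=
    fun a ha _ => hj.equiv a ha.2
  have hi0 : i (1 : ↥Om) = 0 := by simpa using hiadd 1 1
  -- the subgroup W
  let W : Subgroup P :=
    { carrier := {y | y * y ∈ Z ∧ ∀ x, cm y x ∈ Om}
      one_mem' := ⟨by simp, fun x => by simpa [cm] using Om.one_mem⟩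
      mul_mem' := fun {a b} ha hb => ⟨by
        rw [sq_mul (hOmZ (hb.2 a))]
        exact mul_mem (mul_mem ha.1 hb.1) (hOmZ (hb.2 a)),
        fun x => by rw [cm_mul_left (hOmZ (ha.2 x))]; exact mul_mem (ha.2 x) (hb.2 x)⟩
      inv_mem' := fun {a} ha => ⟨by rw [← mul_inv_rev]; exact inv_mem ha.1, fun x => by
        have h := cm_mul_left (a := a) (a' := a⁻¹) (b := x) (hOmZ (ha.2 x))
        rw [mul_inv_cancel, show cm (1 : P) x = 1 by simp [cm]] at h
        rw [eq_inv_of_mul_eq_one_right h.symm]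
        exact inv_mem (ha.2 x)⟩ }
  have hZW : Z ≤ W := fun z hz => ⟨mul_mem hz hz, fun x => by
    rw [(cm_eq_one_iff z x).2 (hZc hz x).symm]; exact one_mem _⟩
  have hOmW : Om ≤ W := hOmZ.trans hZW
  obtain ⟨y₀, hy₀W, hy₀Z⟩ : ∃ y ∈ W, y ∉ Z := by
    by_contra h
    push Not at h
    have hne : Z ≠ ⊤ := fun e' => by
      obtain ⟨x, y, hxy⟩ := hna
      exact hxy (hZc (e' ▸ Subgroup.mem_top y : y ∈ Z) x)
    have hQ : IsPGroup 2 (P ⧸ Z) := hP.to_quotient Z
    have : Nontrivial (P ⧸ Z) := by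
      rw [← not_subsingleton_iff_nontrivial, QuotientGroup.subsingleton_iff]; exact hne
    have := Fact.mk Nat.prime_two
    have hcn := hQ.center_nontrivial
    obtain ⟨g, hg⟩ := exists_prime_orderOf_dvd_card' (G := ↥(Subgroup.center (P ⧸ Z))) 2 (by
      obtain ⟨j, hj⟩ := IsPGroup.iff_card.1 (hQ.to_subgroup (Subgroup.center (P ⧸ Z)))
      rw [hj]
      refine dvd_pow_self 2 ?_
      rintro rfl
      have := Finite.one_lt_card (α := ↥(Subgroup.center (P ⧸ Z)))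
      omega)
    obtain ⟨y, hy⟩ := QuotientGroup.mk_surjective (g : P ⧸ Z)
    have hy2 : y * y ∈ Z := by
      rw [← QuotientGroup.eq_one_iff, QuotientGroup.mk_mul, hy]
      have : g * g = 1 := by rw [← pow_two, ← hg, pow_orderOf_eq_one]
      exact congrArg Subtype.val this
    have hcy : ∀ x, cm y x ∈ Z := fun x => by
      rw [← QuotientGroup.eq_one_iff]
      have := (cm_eq_one_iff (g : P ⧸ Z) (x : P ⧸ Z)).2 ((Subgroup.mem_center_iff.1 g.2 _).symm)
      rw [← hy] at this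
      simpa [cm] using this
    have hyW : y ∈ W := ⟨hy2, fun x => ⟨hcy x, by
      rw [← cm_mul_left (hcy x), (cm_eq_one_iff _ _).2 (hZc hy2 x).symm]⟩⟩
    have h1 : (g : P ⧸ Z) = 1 := by rw [← hy, QuotientGroup.eq_one_iff]; exact h y hyW
    rw [show g = 1 from Subtype.ext h1, orderOf_one] at hg
    omega
  have hkW : ∀ y ∈ W, k y ∈ W := fun y hy => ⟨by rw [← map_mul]; exact hk1 hy.1, fun x => by
    obtain ⟨x, rfl⟩ := k.surjective x
    rw [← map_cm]; exact hOmk _ (hy.2 x)⟩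
  have hWpow : ∀ y ∈ W, y ^ 2 ^ e ∈ Om := fun y hy => hOm_of _ (by
    rw [← pow_add, ← two_mul, ← pow_succ', pow_two_succ]; exact hexp _ hy.1)
  -- the coordinate of `W`
  let f : P → GaloisField 2 n := fun y => if h : y ^ 2 ^ e ∈ Om then i ⟨_, h⟩ else 0
  have hfdef : ∀ (y : P) (h : y ^ 2 ^ e ∈ Om), f y = i ⟨_, h⟩ := fun y h => dif_pos h
  have hf1 : ∀ y, y ^ 2 ^ e = 1 → f y = 0 := fun y h => by
    rw [hfdef y (h ▸ one_mem _)]; rw [← hi0]; congr 1; exact Subtype.ext h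
  have hfk : ∀ y, y ^ 2 ^ e ∈ Om → f (k y) = c * f y := fun y hy => by
    have h' : (k y) ^ 2 ^ e ∈ Om := by rw [← map_pow]; exact hOmk _ hy
    rw [hfdef _ h', hfdef _ hy, ← hik _ hy (hOmk _ hy)]
    congr 1
    exact Subtype.ext (map_pow k y _).symm
  have hfinj : ∀ y, y ^ 2 ^ e ∈ Om → f y = 0 → y ^ 2 ^ e = 1 := fun y hy h => by
    rw [hfdef _ hy, ← hi0] at h
    exact congrArg Subtype.val (hibij.1 h)
  have he1 : ∀ x : P, x ^ 2 ^ e = (x * x) ^ 2 ^ (e - 1) := fun x => by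
    rw [← pow_two_succ, show e - 1 + 1 = e by omega]
  have hfadd : ∀ a ∈ W, ∀ a' ∈ W, f (a * a') = f a + f a' := by
    intro a ha a' ha'
    rw [hfdef _ (hWpow _ (mul_mem ha ha')), hfdef _ (hWpow _ ha), hfdef _ (hWpow _ ha'), ← hiadd]
    congr 1
    refine Subtype.ext ?_
    show (a * a') ^ 2 ^ e = a ^ 2 ^ e * a' ^ 2 ^ e
    rw [he1, he1 a, he1 a', sq_mul (hOmZ (ha'.2 a)), center_mul_pow (hOmZ (ha'.2 a)),
      center_mul_pow ha'.1, show e - 1 = e - 2 + 1 by omega, pow_two_succ (cm a' a), (ha'.2 a).2,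
      one_pow, mul_one]
  have hfker : ∀ a ∈ W, f a = 0 → a ∈ Z := fun a ha h =>
    hroot2 a ha.1 (by rw [← he1]; exact hfinj a (hWpow a ha) h)
  have hfs : ∀ (A : Subgroup P) (g : P → GaloisField 2 n), (∀ a ∈ A, k a ∈ A) →
      (∀ a ∈ A, g (k a) = c * g a) → g 1 = 0 → (∀ a ∈ A, ∀ b ∈ A, g (a * b) = g a + g b) →
      (∃ a ∈ A, g a ≠ 0) → ∀ v, ∃ a ∈ A, g a = v := by
    intro A g hA hgk hg0 hga ⟨a, ha, hga'⟩ v
    let V : AddSubgroup (GaloisField 2 n) :=
      { carrier := {w | ∃ a ∈ A, g a = w}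
        zero_mem' := ⟨1, one_mem _, hg0⟩
        add_mem' := by
          rintro _ _ ⟨x, hx, rfl⟩ ⟨y, hy, rfl⟩
          exact ⟨x * y, mul_mem hx hy, hga x hx y hy⟩
        neg_mem' := by
          rintro _ ⟨x, hx, rfl⟩
          exact ⟨x, hx, (CharTwo.neg_eq _).symm⟩ }
    have hV := hc.closed V (by rintro _ ⟨x, hx, rfl⟩; exact ⟨k x, hA x hx, hgk x hx⟩) ⟨_, ⟨a, ha, rfl⟩, hga'⟩
    exact (hV ▸ AddSubgroup.mem_top v : v ∈ V)
  have hWs := hfs W f hkW (fun a ha => hfk a (hWpow a ha)) (hf1 1 (one_pow _)) hfadd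
    ⟨y₀, hy₀W, fun h => hy₀Z (hfker y₀ hy₀W h)⟩
  have hWcomm : ∀ a ∈ W, ∀ b ∈ W, cm a b = 1 :=
    pairing_trivial hc k Om hOmZ i hibij.1 hiadd hik W W hkW hkW f f hfadd hfadd
      (fun a ha => hfk a (hWpow a ha)) (fun a ha => hfk a (hWpow a ha)) hWs hWs
      (fun a ha b _ => ha.2 b)
      (fun a ha h b _ => (cm_eq_one_iff a b).2 (hZc (hfker a ha h) b).symm)
      (fun b hb h a _ => (cm_eq_one_iff a b).2 (hZc (hfker b hb h) a))
      (fun b hb => ⟨b, hb, rfl, by simp [cm]⟩)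
  -- the centraliser of W
  set C := Subgroup.centralizer (W : Set P) with hCdef
  have hWC : W ≤ C := fun a ha => Subgroup.mem_centralizer_iff.2 fun b hb =>
    ((cm_eq_one_iff b a).1 (hWcomm b hb a ha))
  have hmemC : ∀ {a : P}, a ∈ C ↔ ∀ b ∈ W, b * a = a * b := Subgroup.mem_centralizer_iff
  have hkC : ∀ a ∈ C, k a ∈ C := fun a ha => hmemC.2 fun b hb => by
    obtain ⟨b', hb', rfl⟩ : ∃ b' ∈ W, k b' = b := by
      obtain ⟨kW, hkW'⟩ := exists_restrict k W hkW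
      obtain ⟨b', hb'⟩ := kW.surjective ⟨b, hb⟩
      refine ⟨b', b'.2, ?_⟩
      have := hkW' 1 b'
      rw [pow_one, pow_one, hb'] at this
      exact this.symm
    rw [← map_mul, ← map_mul, hmemC.1 ha b' hb']
  have hCne : Nat.card ↥C < Nat.card P := by
    refine lt_of_le_of_ne (Subgroup.card_le_card_group C) fun h => hy₀Z ?_
    have hC : C = ⊤ := Subgroup.eq_top_of_card_eq C h
    refine Subgroup.mem_center_iff.2 fun x => ?_
    exact (hmemC.1 (hC ▸ Subgroup.mem_top x : x ∈ C) y₀ hy₀W).symm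
  have hCab : ∀ a ∈ C, ∀ b ∈ C, a * b = b * a := by
    by_contra hne
    push Not at hne
    obtain ⟨a, ha, b, hb, hab⟩ := hne
    obtain ⟨kC, hkC'⟩ := exists_restrict k C hkC
    have h := ih (Nat.card ↥C) (lt_of_lt_of_le hCne hcard) ↥C le_rfl (hP.to_subgroup C)
      ⟨⟨a, ha⟩, ⟨b, hb⟩, fun h => hab (congrArg Subtype.val h)⟩ kC
      (hk.restrict hP C hkC ⟨a, ha, fun e => hab (by rw [e, one_mul, mul_one])⟩ kC
        fun x => by simpa using hkC' 1 x)
      ⟨y₀, hWC hy₀W⟩ (Subgroup.mem_center_iff.2 fun x =>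
        Subtype.ext (hmemC.1 x.2 y₀ hy₀W).symm)
    exact hy₀Z (hcen2 y₀ (congrArg Subtype.val h))
  have hWn : ∀ (g : P), ∀ a ∈ W, g⁻¹ * a * g ∈ W := fun g a ha => by
    rw [conj_eq_mul_cm]; exact mul_mem ha (hOmW (ha.2 g))
  have hCn : ∀ (g : P), ∀ a ∈ C, g⁻¹ * a * g ∈ C := fun g a ha => hmemC.2 fun b hb => by
    have h := hmemC.1 ha _ (hWn g⁻¹ b hb)
    rw [inv_inv] at h
    calc b * (g⁻¹ * a * g) = g⁻¹ * (g * b * g⁻¹ * a) * g := by group
      _ = g⁻¹ * (a * (g * b * g⁻¹)) * g := by rw [h]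
      _ = _ := by group
  have hcmC : ∀ a ∈ C, ∀ x, cm a x ∈ C := fun a ha x => by
    rw [show cm a x = a⁻¹ * (x⁻¹ * a * x) by simp [cm, mul_assoc]]
    exact mul_mem (inv_mem ha) (hCn x a ha)
  have hcmsq : ∀ a ∈ C, ∀ x, cm (a * a) x = cm a x * cm a x := fun a ha x => by
    calc cm (a * a) x = a⁻¹ * cm a x * (x⁻¹ * a * x) := by simp [cm, mul_assoc]
      _ = a⁻¹ * (a * cm a x) * cm a x := by
          rw [conj_eq_mul_cm a x]
          simp only [← mul_assoc]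
          rw [mul_assoc a⁻¹ (cm a x) a, ← hCab a ha _ (hcmC a ha x), ← mul_assoc]
      _ = cm a x * cm a x := by group
  have hxxC : ∀ x : P, x * x ∈ C := fun x => hmemC.2 fun b hb => by
    rw [← cm_eq_one_iff, cm_mul_right (hOmZ (hb.2 x))]
    exact (hb.2 x).2
  have hW1 : ∀ d ∈ C, d ^ 2 ^ (e + 1) = 1 → d ∈ W := fun d hd h => by
    have h2 : d * d ∈ Z := hcen e le_rfl _ (by rw [← pow_two_succ]; exact h)
    refine ⟨h2, fun x => hOm_of _ ?_⟩
    rw [← hcmsq d hd x, (cm_eq_one_iff _ _).2 (hZc h2 x).symm]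
  have hCexp : ∀ d ∈ C, d ^ 2 ^ (e + 1) = 1 := by
    have step : ∀ d ∈ C, d ^ 2 ^ (e + 2) = 1 → d ^ 2 ^ (e + 1) = 1 := by
      intro d hd h
      have hdd : d * d ∈ W := hW1 _ (mul_mem hd hd) (by rw [← pow_two_succ]; exact h)
      rw [pow_two_succ]
      refine hexp _ (Subgroup.mem_center_iff.2 fun x => ?_)
      have hη : cm d x ∈ Z := hcen 2 he2 _ (by
        rw [show (2 : ℕ) ^ 2 = 2 ^ (1 + 1) from rfl, pow_two_succ, ← hcmsq d hd x, pow_one, pow_two]
        exact (hdd.2 x).2)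
      have h1 : cm d (x * x) = cm d x * cm d x := cm_mul_right hη
      rw [(cm_eq_one_iff _ _).2 (hCab d hd _ (hxxC x)), ← hcmsq d hd x, eq_comm, cm_eq_one_iff] at h1
      exact h1.symm
    intro d hd
    obtain ⟨M, hM⟩ := hP d
    suffices ∀ M, ∀ d ∈ C, d ^ 2 ^ (e + 1 + M) = 1 → d ^ 2 ^ (e + 1) = 1 from
      this M d hd (by rw [add_comm, pow_add, pow_mul, hM, one_pow])
    intro M
    induction M with
    | zero => intro d _ h; exact h
    | succ M ihM =>
      intro d hd h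
      refine ihM d hd ?_
      have h' := step (d ^ 2 ^ M) (pow_mem hd _) (by
        rw [← pow_mul, ← pow_add, show M + (e + 2) = e + 1 + (M + 1) by omega]; exact h)
      rwa [← pow_mul, ← pow_add, show M + (e + 1) = e + 1 + M by omega] at h'
  have hsqW : ∀ x : P, x * x ∈ W := fun x => hW1 _ (hxxC x) (hCexp _ (hxxC x))
  have hcmW : ∀ y x : P, cm y x ∈ W := fun y x => by
    rw [show cm y x = y⁻¹ * x⁻¹ * (y⁻¹ * x⁻¹) * (x * (y * y) * x⁻¹) * (x * x) by simp [cm, mul_assoc]]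
    refine mul_mem (mul_mem (hsqW _) ?_) (hsqW _)
    have := hWn x⁻¹ _ (hsqW y)
    rwa [inv_inv] at this
  have hcmZ : ∀ y x : P, cm y x ∈ Z ∧ cm y x ^ 2 ^ e = 1 := fun y x => by
    set d := cm y x with hd
    have h1 : cm (x * x) y ∈ Om := (hsqW x).2 y
    have h2 : cm y (x * x) = d * (x⁻¹ * d * x) := by simp [hd, cm, mul_assoc]
    have h3 : cm y (x * x) = (cm (x * x) y)⁻¹ := by simp [cm, mul_assoc]
    have h4 : d * d ∈ Om := by
      have h5 : d * d * cm d x = (cm (x * x) y)⁻¹ := by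
        rw [← h3, h2, conj_eq_mul_cm]; group
      rw [← mul_inv_eq_iff_eq_mul.2 (h5.symm)]
      exact mul_mem (inv_mem h1) (inv_mem ((hcmW y x).2 x))
    have h6 : d ^ 2 ^ 2 = 1 := by
      rw [show (2 : ℕ) ^ 2 = 2 ^ (1 + 1) from rfl, pow_two_succ, pow_one, pow_two]
      exact h4.2
    refine ⟨hcen 2 he2 d h6, ?_⟩
    rw [show e = 2 + (e - 2) by omega, pow_add, pow_mul, h6, one_pow]
  have hWmulpow : ∀ a ∈ W, ∀ b ∈ W, ∀ j : ℕ, (a * b) ^ j = a ^ j * b ^ j := fun a ha b hb j =>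
    Commute.mul_pow (show Commute a b from (cm_eq_one_iff a b).1 (hWcomm a ha b hb)) j
  let g : P → GaloisField 2 n := fun x => f (x * x)
  have hgadd : ∀ b ∈ (⊤ : Subgroup P), ∀ b' ∈ (⊤ : Subgroup P), g (b * b') = g b + g b' := by
    intro b _ b' _
    have hz := hcmZ b' b
    show f (b * b' * (b * b')) = f (b * b) + f (b' * b')
    rw [sq_mul hz.1, hfadd _ (mul_mem (hsqW b) (hsqW b')) _ (hZW hz.1), hf1 _ hz.2, add_zero,
      hfadd _ (hsqW b) _ (hsqW b')]
  have hgker : ∀ b : P, g b = 0 → b ∈ W := by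
    intro b hb
    have h1 : b * b ∈ Z := hfker _ (hsqW b) hb
    have h2 : (b * b) ^ 2 ^ e = 1 := hexp _ h1
    -- correct by an element of `W`
    have hm : (b * b) ^ 2 ^ (e - 1) ∈ Om := hOm_of _ (by
      rw [← pow_add, ← two_mul, ← pow_succ', show e - 1 + 1 = e by omega]; exact h2)
    obtain ⟨y, hy, hy'⟩ := hWs (i ⟨_, hm⟩)
    rw [hfdef _ (hWpow y hy)] at hy'
    have hy'' : y ^ 2 ^ e = (b * b) ^ 2 ^ (e - 1) := congrArg Subtype.val (hibij.1 hy')
    have hz := hcmZ y b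
    have h3 : b * y ∈ Z := hroot2 _ (by rw [sq_mul hz.1]; exact mul_mem (mul_mem h1 hy.1) hz.1) (by
      rw [sq_mul hz.1, center_mul_pow hz.1, center_mul_pow hy.1, ← he1 y, hy'', ← pow_add, ← two_mul,
        ← pow_succ', show e - 1 + 1 = e by omega, h2, one_mul, show e - 1 = e - 2 + 1 by omega,
        pow_two_succ, (hy.2 b).2, one_pow])
    have := mul_mem (hZW h3) (inv_mem hy)
    rwa [mul_inv_cancel_right] at this
  by_cases hgz : ∀ b : P, g b = 0
  · apply hy₀Z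
    refine Subgroup.mem_center_iff.2 fun x => ?_
    exact (cm_eq_one_iff _ _).1 (hWcomm x (hgker x (hgz x)) y₀ hy₀W)
  push Not at hgz
  obtain ⟨b₀, hb₀⟩ := hgz
  have hgs := hfs ⊤ g (fun _ _ => Subgroup.mem_top _) (fun b _ => by
      show f (k b * k b) = c * f (b * b)
      rw [← map_mul]; exact hfk _ (hWpow _ (hsqW b)))
    (by show f (1 * 1) = 0; rw [one_mul]; exact hf1 1 (one_pow _)) hgadd ⟨b₀, Subgroup.mem_top _, hb₀⟩
  have hfinal := pairing_trivial hc k Om hOmZ i hibij.1 hiadd hik W ⊤ hkW (fun _ _ => Subgroup.mem_top _)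
    f g hfadd hgadd (fun a ha => hfk a (hWpow a ha)) (fun b _ => by
      show f (k b * k b) = c * f (b * b)
      rw [← map_mul]; exact hfk _ (hWpow _ (hsqW b))) hWs hgs
    (fun a ha b _ => ha.2 b)
    (fun a ha h b _ => (cm_eq_one_iff a b).2 (hZc (hfker a ha h) b).symm)
    (fun b _ h a ha => hWcomm a ha b (hgker b h))
    (fun b _ => ⟨b * b, hsqW b, rfl, by simp [cm, mul_assoc]⟩)
  exact hy₀Z (Subgroup.mem_center_iff.2 fun x =>
    ((cm_eq_one_iff y₀ x).1 (hfinal y₀ hy₀W x (Subgroup.mem_top x))).symm)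

end CfsgLib.Chev.Suz2Gen
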