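/-
A soluble group transitive on the involutions provides a good scalar.
-/
import Cfsg.Agent.Lib.Chev.Suz2Gen.Center
import Cfsg.Agent.Lib.Recog.TransLinearSolvable

set_option autoImplicit false

namespace CfsgLib.Chev.Suz2Gen

universe u

/-- involutions are central when the automorphisms are transitive on them -/
theorem central_of_transitive {P : Type*} [Group P] [Finite P] (hP : IsPGroup 2 P)
    (htr : ∀ a b : P, a ≠ 1 → a * a = 1 → b ≠ 1 → b * b = 1 → ∃ g : MulAut P, g a = b)
    (x : P) (hx : x * x = 1) : x ∈ Subgroup.center P := by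
  classical
  rcases eq_or_ne x 1 with rfl | hx1
  · exact one_mem _
  haveI : Nontrivial P := ⟨x, 1, hx1⟩
  haveI := Fact.mk Nat.prime_two
  have := hP.center_nontrivial
  obtain ⟨g, hg⟩ := exists_ne (1 : ↥(Subgroup.center P))
  obtain ⟨t, ht, ht2, ht1⟩ := exists_involution hP g.2 (fun h => hg (Subtype.ext h))
  obtain ⟨φ, rfl⟩ := htr t x ht1 ht2 hx1 hx
  refine Subgroup.mem_center_iff.2 fun y => ?_
  obtain ⟨y, rfl⟩ := φ.surjective y
  rw [← map_mul, ← map_mul, Subgroup.mem_center_iff.1 ht]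

section linear

variable {n : ℕ} {G : Type*} [Group G] [Finite G]

/-- a transitive group of semilinear maps of a field of order `2 ^ n` contains a good scalar -/
theorem exists_good_scalar (hn : n ≠ 0) (act : G → GaloisField 2 n → GaloisField 2 n)
    (hone : ∀ v, act 1 v = v) (hmul : ∀ g h v, act (g * h) v = act g (act h v))
    (hinj : ∀ g h, act g = act h → g = h)
    (hsemi : ∀ g, ∃ (a : GaloisField 2 n) (σ : GaloisField 2 n ≃+* GaloisField 2 n), ∀ v, act g v = a * σ v)
    (htr : ∀ v w, v ≠ 0 → w ≠ 0 → ∃ g, act g v = w) :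
    ∃ g c, Good c ∧ ∀ v, act g v = c * v := by
  classical
  haveI := Fintype.ofFinite (GaloisField 2 n)
  choose a σ hσ using hsemi
  have ha : ∀ g, a g ≠ 0 := fun g h => by
    have h1 := hmul g⁻¹ g 1
    rw [inv_mul_cancel, hone] at h1
    have h0 : act g⁻¹ 0 = 0 := by rw [hσ]; simp
    rw [hσ g, h, zero_mul, h0] at h1
    exact one_ne_zero h1
  have huniq : ∀ g b (τ : GaloisField 2 n ≃+* GaloisField 2 n), (∀ v, act g v = b * τ v) → a g = b ∧ σ g = τ := by
    intro g b τ h
    have h1 := (hσ g 1).symm.trans (h 1)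
    rw [map_one, map_one, mul_one, mul_one] at h1
    refine ⟨h1, RingEquiv.ext fun v => mul_left_cancel₀ (ha g) ?_⟩
    rw [← hσ, h, h1]
  have hmul' : ∀ g h, a (g * h) = a g * σ g (a h) ∧ σ (g * h) = σ g * σ h := fun g h =>
    huniq _ _ _ fun v => by rw [hmul, hσ h, hσ g, map_mul, mul_assoc]; rfl
  let χ : G →* (GaloisField 2 n ≃+* GaloisField 2 n) := MonoidHom.mk' σ fun g h => (hmul' g h).2
  let α : ↥χ.ker →* (GaloisField 2 n)ˣ := MonoidHom.mk' (fun g => Units.mk0 (a g) (ha g)) fun g h => Units.ext (by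
    show a ((g : G) * h) = a g * a h
    rw [(hmul' _ _).1, show σ (g : G) = 1 from g.2]; rfl)
  have hαinj : Function.Injective α := fun g h e => Subtype.ext (hinj _ _ (funext fun v => by
    rw [hσ, hσ, show σ (g : G) = 1 from g.2, show σ (h : G) = 1 from h.2,
      show a (g : G) = a h from congrArg Units.val e]))
  haveI : IsCyclic ↥χ.ker := isCyclic_of_injective α hαinj
  obtain ⟨g₀, hg₀⟩ := IsCyclic.exists_ofOrder_eq_natCard (α := ↥χ.ker)
  set m := Nat.card ↥χ.ker with hm
  have hord : orderOf (a g₀) = m := by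
    rw [← hg₀, ← orderOf_injective α hαinj g₀, ← orderOf_units]
    rfl
  have hmN : m ∣ 2 ^ n - 1 := by
    have h1 := orderOf_dvd_natCard (α g₀)
    rwa [orderOf_injective α hαinj g₀, hg₀, Nat.card_units, GaloisField.card 2 n hn] at h1
  have hGn : Nat.card G ∣ m * n := by
    rw [← Subgroup.card_mul_index χ.ker, Subgroup.index_ker]
    refine mul_dvd_mul_left _ ?_
    refine (Subgroup.card_subgroup_dvd_card χ.range).trans (dvd_of_eq ?_)
    let _ := ZMod.algebra (GaloisField 2 n) 2
    rw [Field.card_aut]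
    refine Nat.pow_right_injective le_rfl ?_
    show 2 ^ _ = 2 ^ n
    rw [← GaloisField.card 2 n hn, Nat.card_eq_fintype_card, Module.card_eq_pow_finrank (K := ZMod 2), ZMod.card]
  have hNG : 2 ^ n - 1 ∣ Nat.card G := by
    letI : MulAction G (GaloisField 2 n) := { smul := act, one_smul := hone, mul_smul := hmul }
    have horb : MulAction.orbit G (1 : GaloisField 2 n) = {0}ᶜ := by
      ext v
      simp only [MulAction.mem_orbit_iff, Set.mem_compl_iff, Set.mem_singleton_iff]
      refine ⟨?_, fun hv => htr 1 v one_ne_zero hv⟩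
      rintro ⟨g, rfl⟩
      show act g 1 ≠ 0
      rw [hσ, map_one, mul_one]
      exact ha g
    have h1 := (MulAction.stabilizer G (1 : GaloisField 2 n)).index_dvd_card
    rw [MulAction.index_stabilizer, horb, Set.ncard_compl, Set.ncard_singleton, GaloisField.card 2 n hn] at h1
    exact h1
  obtain ⟨d, hd⟩ := hmN
  have hm0 : 0 < m := Nat.card_pos
  refine ⟨g₀, a g₀, good_of_orderOf (d := d) (Nat.pos_of_ne_zero hn) (GaloisField.card 2 n hn)
    (by rw [hord, hd]) ?_, fun v => ?_⟩
  · refine Nat.dvd_of_mul_dvd_mul_left hm0 ?_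
    rw [← hd]
    exact hNG.trans hGn
  · rw [hσ, show σ (g₀ : G) = 1 from g₀.2]
    rfl

end linear

/-- a soluble group transitive on the non-zero vectors of a binary space contains a good scalar -/
theorem exists_scalar_linear {V : Type*} [AddCommGroup V] [Module (ZMod 2) V] [Finite V] [Nontrivial V]
    {G : Type*} [Group G] [Finite G] (R : G →* Module.End (ZMod 2) V) (hR : Function.Injective R)
    (hsol : Group.IsSolvable G) (htr : ∀ v w : V, v ≠ 0 → w ≠ 0 → ∃ g : G, R g v = w) :
    ∃ (n : ℕ) (e : V ≃+ GaloisField 2 n) (g : G) (c : GaloisField 2 n),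
      Good c ∧ ∀ v, e (R g v) = c * e v := by
  classical
  haveI := Fact.mk Nat.prime_two
  obtain ⟨n, hV⟩ : ∃ n, Nat.card V = 2 ^ n := ⟨Module.finrank (ZMod 2) V, by
    rw [Module.natCard_eq_pow_finrank (K := ZMod 2) (V := V), Nat.card_zmod]⟩
  have hn0 : n ≠ 0 := by
    rintro rfl
    have := Finite.one_lt_card (α := V)
    rw [hV] at this
    simp at this
  rcases CfsgLib.Recog.TransLinear.semilinear_or_small hR hsol htr with ⟨F, _, _, e, hsemi⟩ | hsmall
  swap
  · exfalso
    have h2 : 2 ∣ Nat.card V := hV ▸ dvd_pow_self 2 hn0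
    simp only [Set.mem_insert_iff, Set.mem_singleton_iff] at hsmall
    omega
  have hF : Fintype.card F = 2 ^ n := by
    rw [← Nat.card_eq_fintype_card, ← Nat.card_congr e.toEquiv, hV]
  haveI : CharP F 2 := CharTwo.of_one_ne_zero_of_two_eq_zero one_ne_zero (by
    obtain ⟨x, hx⟩ := e.surjective 1
    rw [← one_add_one_eq_two, ← hx, ← map_add, ← two_smul (ZMod 2) x, show (2 : ZMod 2) = 0 from rfl,
      zero_smul, map_zero])
  haveI := Fintype.ofFinite (GaloisField 2 n)
  let ρ : F ≃+* GaloisField 2 n := FiniteField.ringEquivOfCardEq (K := F) (K' := GaloisField 2 n) (by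
    rw [hF, ← Nat.card_eq_fintype_card, GaloisField.card 2 n hn0])
  let e' : V ≃+ GaloisField 2 n := e.trans ρ.toAddEquiv
  obtain ⟨g, c, hc, hgc⟩ := exists_good_scalar hn0 (fun g v => e' (R g (e'.symm v)))
    (fun v => by simp) (fun g h v => by simp [map_mul])
    (fun g h e₁ => hR (LinearMap.ext fun x => e'.injective (by simpa using congrFun e₁ (e' x))))
    (fun g => by
      obtain ⟨a, σ, hσ⟩ := hsemi g
      refine ⟨ρ a, (ρ.symm.trans σ).trans ρ, fun v => ?_⟩
      show ρ (e (R g (e'.symm v))) = _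
      rw [hσ, map_mul]
      congr 1
      show ρ (σ (e (e.symm (ρ.toAddEquiv.symm v)))) = _
      rw [AddEquiv.apply_symm_apply]
      rfl)
    (fun v w hv hw => by
      obtain ⟨g, hg⟩ := htr (e'.symm v) (e'.symm w) (by simpa using hv) (by simpa using hw)
      exact ⟨g, by simp [hg]⟩)
  refine ⟨n, e', g, c, hc, fun v => ?_⟩
  have h := hgc (e' v)
  rwa [AddEquiv.symm_apply_apply] at h

/-- a soluble group of automorphisms transitive on the involutions contains an irreducible element -/
theorem exists_irr {P : Type u} [Group P] [Finite P] (hP : IsPGroup 2 P) (Y : Subgroup (MulAut P))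
    (hY : Group.IsSolvable Y)
    (htr : ∀ a b : P, a ≠ 1 → a * a = 1 → b ≠ 1 → b * b = 1 → ∃ g ∈ Y, g a = b)
    (hex : ∃ a : P, a ≠ 1 ∧ a * a = 1) : ∃ k : MulAut P, Irr k := by
  classical
  have hcen := central_of_transitive hP fun a b h1 h2 h3 h4 =>
    let ⟨g, _, hg⟩ := htr a b h1 h2 h3 h4; ⟨g, hg⟩
  let Om : Subgroup P :=
    { carrier := {a | a * a = 1}
      one_mem' := one_mul 1
      mul_mem' := fun {a b} ha hb => sq_mul_one hcen ha hb
      inv_mem' := fun {a} ha => by show a⁻¹ * a⁻¹ = 1; rw [← mul_inv_rev, show a * a = 1 from ha, inv_one] }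
  letI : CommGroup ↥Om :=
    { (inferInstance : Group ↥Om) with
      mul_comm := fun a b => Subtype.ext (Subgroup.mem_center_iff.1 (hcen _ b.2) a) }
  letI : Module (ZMod 2) (Additive ↥Om) := AddCommGroup.zmodModule fun x => by
    rw [two_nsmul]; exact congrArg Additive.ofMul (Subtype.ext (show ((Additive.toMul x : ↥Om) : P) * _ = 1 from (Additive.toMul x).2))
  obtain ⟨a₀, ha₀, ha₀'⟩ := hex
  haveI : Nontrivial (Additive ↥Om) :=
    ⟨⟨Additive.ofMul ⟨a₀, ha₀'⟩, 0, fun h => ha₀ (congrArg Subtype.val (congrArg Additive.toMul h))⟩⟩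
  haveI : Finite (MulAut P) := Finite.of_injective (fun e : MulAut P => (e : P → P)) DFunLike.coe_injective
  let res : ↥Y → Additive ↥Om → Additive ↥Om := fun g x =>
    Additive.ofMul ⟨g.1 (Additive.toMul x).1,
      show g.1 _ * g.1 _ = 1 by rw [← map_mul, (Additive.toMul x).2, map_one]⟩
  obtain ⟨Ψ, hΨ⟩ : ∃ Ψ : ↥Y →* Module.End (ZMod 2) (Additive ↥Om),
      ∀ g x, ((Additive.toMul (Ψ g x) : ↥Om) : P) = g.1 ((Additive.toMul x : ↥Om) : P) := ⟨
    { toFun := fun g => AddMonoidHom.toZModLinearMap 2 (AddMonoidHom.mk' (res g) fun x y =>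
        congrArg Additive.ofMul (Subtype.ext (map_mul g.1 _ _)))
      map_one' := LinearMap.ext fun x => rfl
      map_mul' := fun g h => LinearMap.ext fun x => rfl }, fun _ _ => rfl⟩
  let G := Ψ.toHomUnits.range
  let R : ↥G →* Module.End (ZMod 2) (Additive ↥Om) := (Units.coeHom _).comp G.subtype
  have hR : Function.Injective R := fun a b h => Subtype.ext (Units.ext h)
  haveI : Finite ↥G := Finite.of_surjective _ Ψ.toHomUnits.rangeRestrict_surjective
  haveI := hY
  have hsol : Group.IsSolvable ↥G :=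
    solvable_of_surjective (f := Ψ.toHomUnits.rangeRestrict) Ψ.toHomUnits.rangeRestrict_surjective
  have htr' : ∀ v w : Additive ↥Om, v ≠ 0 → w ≠ 0 → ∃ g, R g v = w := by
    intro v w hv hw
    obtain ⟨g, hg, hgv⟩ := htr _ _ (fun h => hv (congrArg Additive.ofMul (Subtype.ext h : Additive.toMul v = 1)))
      (Additive.toMul v).2 (fun h => hw (congrArg Additive.ofMul (Subtype.ext h : Additive.toMul w = 1)))
      (Additive.toMul w).2
    refine ⟨Ψ.toHomUnits.rangeRestrict ⟨g, hg⟩, ?_⟩
    show Ψ ⟨g, hg⟩ v = w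
    refine Additive.toMul.injective (Subtype.ext ?_)
    rw [hΨ]
    exact hgv
  obtain ⟨n, e', g, c, hc, hgc⟩ := exists_scalar_linear R hR hsol htr'
  obtain ⟨y, rfl⟩ := Ψ.toHomUnits.rangeRestrict_surjective g
  let j : P → GaloisField 2 n := fun p => if h : p * p = 1 then e' (Additive.ofMul ⟨p, h⟩) else 0
  have hjd : ∀ p (h : p * p = 1), j p = e' (Additive.ofMul ⟨p, h⟩) := fun p h => dif_pos h
  refine ⟨y.1, hcen, n, j, c, hc, ⟨fun a b ha hb => ?_, fun a ha => ?_, fun a ha h => ?_, fun v => ?_⟩⟩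
  · rw [hjd _ (sq_mul_one hcen ha hb), hjd a ha, hjd b hb, ← map_add]
    rfl
  · have ha' : y.1 a * y.1 a = 1 := by rw [← map_mul, ha, map_one]
    have h := hgc (Additive.ofMul ⟨a, ha⟩)
    rw [hjd _ ha', hjd a ha, ← h, show R (Ψ.toHomUnits.rangeRestrict y) = Ψ y from rfl]
    refine congrArg e' (Additive.toMul.injective (Subtype.ext ?_))
    rw [hΨ]
    rfl
  · rw [hjd a ha, ← map_zero e'] at h
    exact congrArg Subtype.val (congrArg Additive.toMul (e'.injective h))
  · refine ⟨(Additive.toMul (e'.symm v)).1, (Additive.toMul (e'.symm v)).2, ?_⟩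
    rw [hjd _ (Additive.toMul (e'.symm v)).2]
    exact e'.apply_symm_apply v

end CfsgLib.Chev.Suz2Gen
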