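/-
Squares are central in a 2-group with an irreducible automorphism and a transitive automorphism group on the involutions.
-/
import Cfsg.Agent.Lib.Chev.Suz2Gen.Center

set_option autoImplicit false

namespace CfsgLib.Chev.Suz2Gen

open CfsgLib.Chev.Suz2 (cm mul_eq_mul_cm conj_eq_mul_cm cm_eq_one_iff map_cm cm_mul_left cm_mul_right sq_mul
  pow_two_succ center_mul_pow pow_apply_succ exists_restrict exists_fixed_coset exists_order_four coeff_unique)

universe u

/-- an odd power of the automorphism fixes only the trivial involution -/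
theorem exists_odd_power {P : Type u} [Group P] [Finite P] (k : MulAut P) (hk : Irr k)
    (h2 : ∃ a b : P, a ≠ b ∧ a ≠ 1 ∧ a * a = 1 ∧ b ≠ 1 ∧ b * b = 1) :
    ∃ (k' : MulAut P) (m : ℕ), Odd m ∧ k' ^ m = 1 ∧ (∃ i, k' = k ^ i) ∧
      ∀ z : P, z * z = 1 → k' z = z → z = 1 := by
  classical
  have : Finite (MulAut P) := Finite.of_injective (fun e : MulAut P => (e : P → P)) DFunLike.coe_injective
  obtain ⟨s, m, hm, hsm⟩ := Nat.exists_eq_pow_mul_and_not_dvd (orderOf_pos k).ne' 2 (by norm_num)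
  refine ⟨k ^ 2 ^ s, m, Nat.odd_iff.2 (by omega), by rw [← pow_mul, ← hsm, pow_orderOf_eq_one],
    ⟨_, rfl⟩, fun z hz hkz => ?_⟩
  by_contra hz1
  obtain ⟨n, j, c, hc, hj⟩ := hk.coord
  have hpow : ∀ i : ℕ, (k ^ i) z * (k ^ i) z = 1 ∧ j ((k ^ i) z) = c ^ i * j z := by
    intro i
    induction i with
    | zero => simp [hz]
    | succ i ih =>
      rw [pow_apply_succ]
      exact ⟨by rw [← map_mul, ih.1, map_one], by rw [hj.equiv _ ih.1, ih.2, pow_succ', mul_assoc]⟩
  have h1 : c ^ 2 ^ s = 1 := by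
    have := (hpow (2 ^ s)).2
    rw [hkz] at this
    exact mul_right_cancel₀ (fun h => hz1 (hj.eq_one z hz h)) (this.symm.trans (one_mul _).symm)
  have hc1 : c = 1 := by
    clear hkz hsm
    induction s with
    | zero => simpa using h1
    | succ s ih =>
      refine ih (sq_inj (y := 1) ?_)
      rw [one_mul, ← pow_add, ← two_mul, ← pow_succ']
      exact h1
  let V : AddSubgroup (GaloisField 2 n) :=
    { carrier := {v | v = 0 ∨ v = 1}
      zero_mem' := Or.inl rfl
      add_mem' := by rintro _ _ (rfl | rfl) (rfl | rfl) <;> simp [CharTwo.add_self_eq_zero]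
      neg_mem' := by rintro _ (rfl | rfl) <;> simp [CharTwo.neg_eq] }
  have hV := hc.closed V (fun v hv => by rwa [hc1, one_mul]) ⟨1, Or.inr rfl, one_ne_zero⟩
  have hone : ∀ a : P, a ≠ 1 → a * a = 1 → j a = 1 := fun a ha ha' =>
    ((hV ▸ AddSubgroup.mem_top _ : j a ∈ V) : j a = 0 ∨ j a = 1).resolve_left fun h => ha (hj.eq_one a ha' h)
  obtain ⟨a, b, hab, ha, ha', hb, hb'⟩ := h2
  exact hab (hj.inj hk.central a b ha' hb' ((hone a ha ha').trans (hone b hb hb').symm))

/-- an invariant subgroup with a central element of order above two is abelian -/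
theorem abelian_of_central {P : Type u} [Group P] [Finite P] (hP : IsPGroup 2 P) (k : MulAut P) (hk : Irr k)
    (H : Subgroup P) (hH : ∀ h ∈ H, k h ∈ H) {a : P} (ha : a ∈ H) (hac : ∀ h ∈ H, h * a = a * h)
    (ha2 : a * a ≠ 1) : ∀ x ∈ H, ∀ y ∈ H, x * y = y * x := by
  intro x hx y hy
  by_contra hne
  obtain ⟨kH, hkH⟩ := exists_restrict k H hH
  exact ha2 (congrArg Subtype.val (center_elementary (Nat.card ↥H) ↥H le_rfl (hP.to_subgroup H)
    ⟨⟨x, hx⟩, ⟨y, hy⟩, fun e => hne (congrArg Subtype.val e)⟩ kH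
    (hk.restrict hP H hH ⟨a, ha, fun e => ha2 (by rw [e, one_mul])⟩ kH fun z => by simpa using hkH 1 z)
    ⟨a, ha⟩ (Subgroup.mem_center_iff.2 fun u => Subtype.ext (hac u u.2))))

theorem squares_central {P : Type u} [Group P] [Finite P] (hP : IsPGroup 2 P)
    (hna : ∃ x y : P, x * y ≠ y * x) (k : MulAut P) (hk : Irr k)
    (h2 : ∃ a b : P, a ≠ b ∧ a ≠ 1 ∧ a * a = 1 ∧ b ≠ 1 ∧ b * b = 1)
    (htr : ∀ a b : P, a ≠ 1 → a * a = 1 → b ≠ 1 → b * b = 1 → ∃ g : MulAut P, g a = b) :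
    ∀ x : P, x * x ∈ Subgroup.center P := by
  classical
  haveI := Fact.mk Nat.prime_two
  set Z := Subgroup.center P with hZdef
  have hZmem : ∀ {z : P}, z ∈ Z → ∀ g : P, g * z = z * g := fun hz => Subgroup.mem_center_iff.1 hz
  have hZc : ∀ z ∈ Z, z * z = 1 := center_elementary (Nat.card P) P le_rfl hP hna k hk
  have hinv : ∀ {x : P}, x * x = 1 → x ∈ Z := fun h => hk.central _ h
  have hkZ : ∀ {x : P}, x ∈ Z → k x ∈ Z := fun {x} hx => Subgroup.mem_center_iff.2 fun y => by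
    obtain ⟨y, rfl⟩ := k.surjective y
    rw [← map_mul, ← map_mul, hZmem hx y]
  by_contra hne
  push Not at hne
  obtain ⟨x₀, hx₀⟩ := hne
  -- the second centre and its centraliser
  let W : Subgroup P :=
    { carrier := {y | y * y ∈ Z ∧ ∀ x, cm y x ∈ Z}
      one_mem' := ⟨by simp, fun x => by simp [cm]⟩
      mul_mem' := by
        rintro a b ⟨ha, ha'⟩ ⟨hb, hb'⟩
        refine ⟨?_, fun x => ?_⟩
        · rw [sq_mul (hb' a)]
          exact mul_mem (mul_mem ha hb) (hb' a)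
        · rw [cm_mul_left (ha' x)]
          exact mul_mem (ha' x) (hb' x)
      inv_mem' := by
        rintro a ⟨ha, ha'⟩
        refine ⟨by rw [← mul_inv_rev]; exact inv_mem ha, fun x => ?_⟩
        have h : cm a x * cm a⁻¹ x = 1 := by
          rw [← cm_mul_left (ha' x), mul_inv_cancel]; simp [cm]
        rw [eq_inv_of_mul_eq_one_right h]
        exact inv_mem (ha' x) }
  have hkW : ∀ y ∈ W, k y ∈ W := fun y hy => ⟨by rw [← map_mul]; exact hkZ hy.1, fun x => by
    obtain ⟨x, rfl⟩ := k.surjective x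
    rw [← map_cm]; exact hkZ (hy.2 x)⟩
  have hZW : Z ≤ W := fun z hz => ⟨by rw [hZc z hz]; exact one_mem _, fun x => by
    rw [(cm_eq_one_iff z x).2 (hZmem hz x).symm]; exact one_mem _⟩
  set C := Subgroup.centralizer (W : Set P) with hCdef
  have hmemC : ∀ {a : P}, a ∈ C ↔ ∀ b ∈ W, b * a = a * b := Subgroup.mem_centralizer_iff
  have hkC : ∀ a ∈ C, k a ∈ C := fun a ha => hmemC.2 fun b hb => by
    obtain ⟨b', hb', rfl⟩ : ∃ b' ∈ W, k b' = b := by
      obtain ⟨kW, hkW'⟩ := exists_restrict k W hkW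
      obtain ⟨b', hb'⟩ := kW.surjective ⟨b, hb⟩
      refine ⟨b', b'.2, ?_⟩
      have := hkW' 1 b'
      rw [pow_one, pow_one, hb'] at this
      exact this.symm
    rw [← map_mul, ← map_mul, hmemC.1 ha b' hb']
  have hxxC : ∀ x : P, x * x ∈ C := fun x => hmemC.2 fun b hb => by
    rw [← cm_eq_one_iff, cm_mul_right (hb.2 x), hZc _ (hb.2 x)]
  have hWn : ∀ (g : P), ∀ a ∈ W, g⁻¹ * a * g ∈ W := fun g a ha => by
    rw [conj_eq_mul_cm]; exact mul_mem ha (hZW (ha.2 g))
  have hCn : ∀ (g : P), ∀ a ∈ C, g⁻¹ * a * g ∈ C := fun g a ha => hmemC.2 fun b hb => by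
    have h := hmemC.1 ha _ (hWn g⁻¹ b hb)
    rw [inv_inv] at h
    calc b * (g⁻¹ * a * g) = g⁻¹ * (g * b * g⁻¹ * a) * g := by group
      _ = g⁻¹ * (a * (g * b * g⁻¹)) * g := by rw [h]
      _ = _ := by group
  have hcmC : ∀ a ∈ C, ∀ x, cm a x ∈ C := fun a ha x => by
    rw [show cm a x = a⁻¹ * (x⁻¹ * a * x) by simp [cm, mul_assoc]]
    exact mul_mem (inv_mem ha) (hCn x a ha)
  have hcmsquares : ∀ y x : P, cm y x ∈ C := fun y x => by
    rw [show cm y x = y⁻¹ * x⁻¹ * (y⁻¹ * x⁻¹) * (x * (y * y) * x⁻¹) * (x * x) by simp [cm, mul_assoc]]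
    refine mul_mem (mul_mem (hxxC _) ?_) (hxxC _)
    have := hCn x⁻¹ _ (hxxC y)
    rwa [inv_inv] at this
  -- `W ⊓ C` is larger than the centre
  set A := C ⊓ W with hAdef
  obtain ⟨a₁, ha₁, ha₁'⟩ : ∃ a ∈ A, a ∉ Z := by
    haveI : Group.IsNilpotent P := hP.isNilpotent
    have hnil : ∃ i, ∃ a ∈ C, a ∈ Subgroup.upperCentralSeries P i ∧ a ∉ Z := by
      obtain ⟨i, hi⟩ := (Group.isNilpotent_iff P).1 inferInstance
      exact ⟨i, x₀ * x₀, hxxC x₀, by rw [hi]; trivial, hx₀⟩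
    obtain ⟨a, haC, hai, haZ⟩ := Nat.find_spec hnil
    refine ⟨a, ⟨haC, ?_⟩, haZ⟩
    obtain ⟨i, hi⟩ : ∃ i, Nat.find hnil = i + 1 := by
      refine ⟨Nat.find hnil - 1, (Nat.succ_pred_eq_of_ne_zero fun e => haZ ?_).symm⟩
      rw [e] at hai
      rw [Subgroup.upperCentralSeries_zero, Subgroup.mem_bot] at hai
      rw [hai]; exact one_mem _
    rw [hi] at hai
    have hcmZ : ∀ x, cm a x ∈ Z := fun x => by
      by_contra h
      refine Nat.find_min hnil (m := i) (by omega) ⟨cm a x, hcmC a haC x, ?_, h⟩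
      have h4 := (Subgroup.mem_upperCentralSeries_succ_iff.1 hai) x⁻¹
      have h5 : cm a x = (a⁻¹ * (a * x⁻¹ * a⁻¹ * x⁻¹⁻¹)⁻¹ * a) := by simp [cm, mul_assoc]
      rw [h5]
      have := (inferInstance : (Subgroup.upperCentralSeries P i).Normal).conj_mem _ (inv_mem h4) a⁻¹
      rwa [inv_inv] at this
    refine ⟨?_, hcmZ⟩
    exact Subgroup.mem_center_iff.2 fun x => ((cm_eq_one_iff (a * a) x).1
      (by rw [cm_mul_left (hcmZ x), hZc _ (hcmZ x)])).symm
  have hkA : ∀ a ∈ A, k a ∈ A := fun a ha => ⟨hkC a ha.1, hkW a ha.2⟩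
  have hAcomm : ∀ a ∈ A, ∀ b ∈ A, a * b = b * a := fun a ha b hb => (hmemC.1 hb.1 a ha.2)
  have hZA : Z ≤ A := fun z hz => ⟨hmemC.2 fun b _ => hZmem hz b, hZW hz⟩
  have ha₁sq : a₁ * a₁ ≠ 1 := fun h => ha₁' (hinv h)
  have hCab : ∀ x ∈ C, ∀ y ∈ C, x * y = y * x :=
    abelian_of_central hP k hk C hkC ha₁.1 (fun h hh => (hmemC.1 hh a₁ ha₁.2).symm) ha₁sq
  -- coordinates on the centre
  letI : CommGroup ↥Z :=
    { (inferInstance : Group ↥Z) with mul_comm := fun s t => Subtype.ext (hZmem t.2 s) }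
  obtain ⟨n, j₀, c, hc, hj⟩ := hk.coord
  let i : ↥Z → GaloisField 2 n := fun z => j₀ z
  have hi : Function.Bijective i := ⟨fun z w h => Subtype.ext
      (hj.inj hk.central _ _ (hZc _ z.2) (hZc _ w.2) h), fun v => by
    obtain ⟨z, hz, rfl⟩ := hj.surj v
    exact ⟨⟨z, hinv hz⟩, rfl⟩⟩
  have hiadd : ∀ z w : ↥Z, i (z * w) = i z + i w := fun z w => hj.add _ _ (hZc _ z.2) (hZc _ w.2)
  have hik : ∀ (z : P) (h : z ∈ Z), i ⟨k z, hkZ h⟩ = c * i ⟨z, h⟩ := fun z h => hj.equiv z (hZc z h)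
  have hi1 : i 1 = 0 := by simpa using hiadd 1 1
  have hi0 : ∀ (z : P) (h : z ∈ Z), i ⟨z, h⟩ = 0 → z = 1 := fun z h e =>
    congrArg Subtype.val (hi.1 (e.trans hi1.symm))
  have hc0 : c ≠ 0 := hc.ne_zero
  have := Fintype.ofFinite (GaloisField 2 n)
  let f : P → (GaloisField 2 n) := fun y => if h : y * y ∈ Z then i ⟨y * y, h⟩ else 0
  have hfdef : ∀ y (h : y * y ∈ Z), f y = i ⟨y * y, h⟩ := fun y h => dif_pos h
  have hfZ : ∀ z ∈ Z, f z = 0 := fun z hz => by
    rw [hfdef z (mul_mem hz hz), ← hi1]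
    exact congrArg i (Subtype.ext (hZc z hz))
  have hfadd : ∀ a ∈ A, ∀ b ∈ A, f (a * b) = f a + f b := fun a ha b hb => by
    rw [hfdef _ (mul_mem ha.2 hb.2).1, hfdef _ ha.2.1, hfdef _ hb.2.1, ← hiadd]
    refine congrArg i (Subtype.ext ?_)
    show a * b * (a * b) = a * a * (b * b)
    rw [mul_assoc a b, ← mul_assoc b a b, ← hAcomm a ha b hb]
    simp [mul_assoc]
  have hfk : ∀ a ∈ A, f (k a) = c * f a := fun a ha => by
    rw [hfdef _ (hkA a ha).2.1, hfdef _ ha.2.1, ← hik _ ha.2.1]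
    exact congrArg i (Subtype.ext (map_mul k a a).symm)
  have hfker : ∀ a ∈ A, f a = 0 → a ∈ Z := fun a ha h => by
    rw [hfdef _ ha.2.1] at h
    exact hinv (hi0 _ _ h)
  have hfsurj : ∀ v : (GaloisField 2 n), ∃ a ∈ A, f a = v := by
    let V : AddSubgroup (GaloisField 2 n) :=
      { carrier := {w | ∃ a ∈ A, f a = w}
        zero_mem' := ⟨1, one_mem _, hfZ 1 (one_mem _)⟩
        add_mem' := by
          rintro _ _ ⟨x, hx, rfl⟩ ⟨y, hy, rfl⟩
          exact ⟨x * y, mul_mem hx hy, hfadd x hx y hy⟩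
        neg_mem' := by
          rintro _ ⟨x, hx, rfl⟩
          exact ⟨x, hx, (CharTwo.neg_eq _).symm⟩ }
    have hV := hc.closed V (by rintro _ ⟨x, hx, rfl⟩; exact ⟨k x, hkA x hx, hfk x hx⟩)
      ⟨_, ⟨a₁, ha₁, rfl⟩, fun h => ha₁' (hfker a₁ ha₁ h)⟩
    exact fun v => (hV ▸ AddSubgroup.mem_top v : v ∈ V)
  choose s hsA hs using hfsurj
  -- the commutator action on `A`
  let T : P → (GaloisField 2 n) → (GaloisField 2 n) := fun x v => i ⟨cm (s v) x, (hsA v).2.2 x⟩
  have hT : ∀ a (ha : a ∈ A) x, T x (f a) = i ⟨cm a x, ha.2.2 x⟩ := by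
    intro a ha x
    have hm : (s (f a))⁻¹ * a ∈ Z := hfker _ (mul_mem (inv_mem (hsA _)) ha) (by
      have h := hfadd _ (hsA (f a)) _ (mul_mem (inv_mem (hsA (f a))) ha)
      rw [mul_inv_cancel_left, hs] at h
      exact left_eq_add.1 h)
    refine congrArg i (Subtype.ext ?_)
    show cm (s (f a)) x = cm a x
    conv_rhs => rw [← mul_inv_cancel_left (s (f a)) a, cm_mul_left ((hsA _).2.2 x),
      (cm_eq_one_iff _ x).2 (hZmem hm x).symm, mul_one]
  have hTv : ∀ x v w, T x (v + w) = T x v + T x w := fun x v w => by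
    conv_lhs => rw [← hs v, ← hs w, ← hfadd _ (hsA v) _ (hsA w), hT _ (mul_mem (hsA v) (hsA w))]
    rw [← hiadd]
    exact congrArg i (Subtype.ext (cm_mul_left ((hsA v).2.2 x)))
  have hTx : ∀ x y v, T (x * y) v = T x v + T y v := fun x y v => by
    rw [add_comm, ← hiadd]
    exact congrArg i (Subtype.ext (cm_mul_right ((hsA v).2.2 x)))
  have hTk : ∀ x v, T (k x) (c * v) = c * T x v := fun x v => by
    conv_lhs => rw [← hs v, ← hfk _ (hsA v), hT _ (hkA _ (hsA v))]
    rw [← hik _ ((hsA v).2.2 x)]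
    exact congrArg i (Subtype.ext (map_cm k _ _).symm)
  have hT0 : ∀ x, T x 0 = 0 := fun x => by simpa using hTv x 0 0
  have hT1 : ∀ v, T 1 v = 0 := fun v => by simpa using hTx 1 1 v
  have hW1 : ∀ d ∈ C, d * d * (d * d) = 1 → d ∈ A := fun d hd h => by
    refine ⟨hd, hinv h, fun x => hinv ?_⟩
    have e : cm (d * d) x = cm d x * cm d x := by
      calc cm (d * d) x = d⁻¹ * cm d x * (x⁻¹ * d * x) := by simp [cm, mul_assoc]
        _ = d⁻¹ * (d * cm d x) * cm d x := by
            rw [conj_eq_mul_cm d x]; simp only [← mul_assoc]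
            rw [mul_assoc d⁻¹ (cm d x) d, ← hCab d hd _ (hcmC d hd x), ← mul_assoc]
        _ = cm d x * cm d x := by group
    rw [← e, cm_eq_one_iff]
    exact (hZmem (hinv h) x).symm
  obtain ⟨k', m, hm, hkm, ⟨pw, hpw⟩, hfix⟩ := exists_odd_power k hk h2
  have hk'A : ∀ a ∈ A, k' a ∈ A := fun a ha => by
    subst hpw
    clear hkm hfix
    induction pw with
    | zero => simpa using ha
    | succ pw ih => rw [pow_apply_succ]; exact hkA _ ih
  by_cases h8 : ∃ d ∈ C, d * d * (d * d) ≠ 1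
  · -- exponent at least eight: every `T x` is idempotent
    obtain ⟨d₀, hd₀C, hd₀⟩ := h8
    obtain ⟨j, hj1, hj2⟩ := exists_order_four hP hd₀
    rw [← pow_two d₀, ← pow_mul, mul_comm, pow_mul, pow_two] at hj1 hj2
    set d₁ := d₀ ^ j with hd₁def
    have hd₁C : d₁ ∈ C := pow_mem hd₀C j
    have hsq2 : ∀ d ∈ C, d * d * (d * d) * (d * d * (d * d)) = 1 → d * d ∈ A := fun d hd h =>
      hW1 _ (mul_mem hd hd) h
    have hroot : ∀ v : (GaloisField 2 n), ∃ d ∈ C, d * d ∈ A ∧ f (d * d) = v := by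
      let V : AddSubgroup (GaloisField 2 n) :=
        { carrier := {w | ∃ d ∈ C, d * d ∈ A ∧ f (d * d) = w}
          zero_mem' := ⟨1, one_mem _, by rw [one_mul]; exact one_mem _, by rw [one_mul]; exact hfZ 1 (one_mem _)⟩
          add_mem' := by
            rintro _ _ ⟨x, hx, hx', rfl⟩ ⟨y, hy, hy', rfl⟩
            have e : x * y * (x * y) = x * x * (y * y) := by
              rw [mul_assoc x y, ← mul_assoc y x y, ← hCab x hx y hy]; simp [mul_assoc]
            exact ⟨x * y, mul_mem hx hy, e ▸ mul_mem hx' hy', by rw [e, hfadd _ hx' _ hy']⟩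
          neg_mem' := by
            rintro _ ⟨x, hx, hx', rfl⟩
            exact ⟨x, hx, hx', (CharTwo.neg_eq _).symm⟩ }
      have hd₁A : d₁ * d₁ ∈ A := hsq2 d₁ hd₁C hj2
      have hV := hc.closed V (by
        rintro _ ⟨x, hx, hx', rfl⟩
        exact ⟨k x, hkC x hx, by rw [← map_mul]; exact hkA _ hx', by rw [← map_mul, hfk _ hx']⟩)
        ⟨_, ⟨d₁, hd₁C, hd₁A, rfl⟩, fun h => hj1 (hZc _ (hfker _ hd₁A h))⟩
      exact fun v => (hV ▸ AddSubgroup.mem_top v : v ∈ V)
    have hidem : ∀ x v, T x (T x v) = T x v := by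
      intro x v
      obtain ⟨d, hdC, hdA, rfl⟩ := hroot v
      set e := cm d x with he
      have heC : e ∈ C := hcmC d hdC x
      have he2 : cm (d * d) x = e * e := by
        calc cm (d * d) x = d⁻¹ * cm d x * (x⁻¹ * d * x) := by simp [cm, mul_assoc]
          _ = d⁻¹ * (d * cm d x) * cm d x := by
              rw [conj_eq_mul_cm d x]; simp only [← mul_assoc]
              rw [mul_assoc d⁻¹ (cm d x) d, ← hCab d hdC _ (hcmC d hdC x), ← mul_assoc]
          _ = e * e := by rw [he]; group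
      have heZ : e * e ∈ Z := he2 ▸ hdA.2.2 x
      have heA : e ∈ A := hW1 e heC (hZc _ heZ)
      have hfe : f e = T x (f (d * d)) := by
        rw [hT _ hdA, hfdef _ heZ]
        exact congrArg i (Subtype.ext he2.symm)
      have h1 : e * e * cm e x = 1 := by
        have h := (cm_eq_one_iff d (x * x)).2 (hCab d hdC _ (hxxC x))
        have h' : cm d (x * x) = cm d x * (x⁻¹ * cm d x * x) := by simp [cm, mul_assoc]
        rw [h', conj_eq_mul_cm, ← he] at h
        rwa [mul_assoc]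
      rw [← hfe, hT e heA, hfdef _ heZ]
      refine (CharTwo.add_eq_zero.1 ?_).symm
      rw [← hiadd, ← hi1]
      exact congrArg i (Subtype.ext h1)
    have hdich : ∀ x, (∀ v, T x v = 0) ∨ ∀ v, T x v = v := by
      have hex : ∀ x, ∃ co : ((GaloisField 2 n) ≃+* (GaloisField 2 n)) → (GaloisField 2 n),
          ∀ v, T x v = ∑ σ, co σ * σ v := fun x => by
        obtain ⟨co, hco⟩ := Field.exists_sum_aut (AddMonoidHom.mk' (T x) (hTv x))
        exact ⟨co, hco⟩
      choose d hd using hex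
      have hdadd : ∀ x y, d (x * y) = d x + d y := fun x y =>
        coeff_unique fun v => by rw [← hd, hTx, hd, hd, ← Finset.sum_add_distrib]; simp [add_mul]
      have hdk : ∀ x, d (k x) = fun σ => c / σ c * d x σ := fun x => by
        funext σ
        have h := congrFun (coeff_unique (d := fun σ => d (k x) σ * σ c) (d' := fun σ => c * d x σ) fun v => ?_) σ
        · replace h : d (k x) σ * σ c = c * d x σ := h
          rw [div_mul_eq_mul_div, ← h, mul_div_cancel_right₀ _ ((map_ne_zero σ).2 hc0)]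
        · calc ∑ σ, d (k x) σ * σ c * σ v = T (k x) (c * v) := by
                rw [hd]; exact Finset.sum_congr rfl fun σ _ => by rw [map_mul, mul_assoc]
            _ = ∑ σ, c * d x σ * σ v := by
                rw [hTk, hd, Finset.mul_sum]; exact Finset.sum_congr rfl fun σ _ => by rw [mul_assoc]
      have hd1 : d 1 = 0 := coeff_unique fun v => by rw [← hd, hT1]; simp
      let D : AddSubgroup (((GaloisField 2 n) ≃+* (GaloisField 2 n)) → (GaloisField 2 n)) :=
        { carrier := Set.range d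
          zero_mem' := ⟨1, hd1⟩
          add_mem' := by rintro _ _ ⟨x, rfl⟩ ⟨y, rfl⟩; exact ⟨x * y, hdadd x y⟩
          neg_mem' := by rintro _ ⟨x, rfl⟩; exact ⟨x, funext fun σ => (CharTwo.neg_eq _).symm⟩ }
      intro x
      have hzero : ∀ σ, σ ≠ 1 → d x σ = 0 := by
        intro σ hσ
        by_contra hw
        obtain ⟨y, hy⟩ := hc.project D (by rintro _ ⟨z, rfl⟩; exact ⟨k z, hdk z⟩) ⟨x, rfl⟩ σ
        have hTy : ∀ v, T y v = d x σ * σ v := fun v => by
          rw [hd, hy, Finset.sum_eq_single σ (fun τ _ hτ => by rw [Pi.single_eq_of_ne hτ, zero_mul])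
            (fun h => absurd (Finset.mem_univ _) h), Pi.single_eq_same]
        have h := coeff_unique (d := Pi.single (σ * σ) (d x σ * σ (d x σ))) (d' := Pi.single σ (d x σ))
          fun v => by
            rw [Finset.sum_eq_single (σ * σ) (fun τ _ hτ => by rw [Pi.single_eq_of_ne hτ, zero_mul])
              (fun h => absurd (Finset.mem_univ _) h), Finset.sum_eq_single σ
              (fun τ _ hτ => by rw [Pi.single_eq_of_ne hτ, zero_mul])
              (fun h => absurd (Finset.mem_univ _) h), Pi.single_eq_same, Pi.single_eq_same]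
            have := hidem y v
            rw [hTy, hTy, map_mul] at this
            rw [← this, mul_assoc]
            rfl
        have h' := congrFun h σ
        have hne' : σ ≠ σ * σ := fun e => hσ (mul_left_cancel (((mul_one σ).trans e).symm))
        rw [Pi.single_eq_of_ne hne', Pi.single_eq_same] at h'
        exact hw h'.symm
      have hTx' : ∀ v, T x v = d x 1 * v := fun v => by
        rw [hd, Finset.sum_eq_single 1 (fun τ _ hτ => by rw [hzero τ hτ, zero_mul])
          (fun h => absurd (Finset.mem_univ _) h)]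
        rfl
      have h := hidem x 1
      rw [hTx', hTx', mul_one] at h
      rcases eq_or_ne (d x 1) 0 with h0 | h0
      · exact Or.inl fun v => by rw [hTx', h0, zero_mul]
      · refine Or.inr fun v => ?_
        rw [hTx', mul_left_cancel₀ h0 (h.trans (mul_one _).symm), one_mul]
    obtain ⟨x, hx⟩ : ∃ x, ∀ v, T x v = v := by
      by_contra hne
      refine ha₁' (Subgroup.mem_center_iff.2 fun x => ((cm_eq_one_iff a₁ x).1 ?_).symm)
      have h := ((hdich x).resolve_right fun h => hne ⟨x, h⟩) (f a₁)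
      rw [hT a₁ ha₁] at h
      exact hi0 _ _ h
    let P₀ : Subgroup P :=
      { carrier := {y | ∀ v, T y v = 0}
        one_mem' := hT1
        mul_mem' := fun {a b} ha hb v => by rw [hTx, ha v, hb v, add_zero]
        inv_mem' := fun {a} ha v => by
          have := hTx a⁻¹ a v
          rw [inv_mul_cancel, hT1, ha v, add_zero] at this
          exact this.symm }
    have hkT : ∀ y, ((∀ v, T y v = 0) → ∀ v, T (k y) v = 0) ∧ ((∀ v, T y v = v) → ∀ v, T (k y) v = v) :=
      fun y => ⟨fun h v => by rw [← mul_div_cancel₀ v hc0, hTk, h, mul_zero],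
        fun h v => by rw [← mul_div_cancel₀ v hc0, hTk, h]⟩
    have hk'T : ∀ y, ((∀ v, T y v = 0) → ∀ v, T (k' y) v = 0) ∧
        ((∀ v, T y v = v) → ∀ v, T (k' y) v = v) := by
      subst hpw
      clear hkm hfix hk'A
      induction pw with
      | zero => intro y; exact ⟨fun h => by simpa using h, fun h => by simpa using h⟩
      | succ pw ih =>
        intro y
        rw [pow_apply_succ]
        exact ⟨fun h => (hkT _).1 ((ih y).1 h), fun h => (hkT _).2 ((ih y).2 h)⟩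
    have hxinv : ∀ v, T x⁻¹ v = v := fun v => by
      have := hTx x⁻¹ x v
      rw [inv_mul_cancel, hT1, hx] at this
      exact CharTwo.add_eq_zero.1 this.symm
    obtain ⟨h, hh, hfx⟩ := exists_fixed_coset m hm P hP k' hkm P₀ (fun y hy => (hk'T y).1 hy) x
      (fun v => by rw [hTx, hxinv, (hk'T x).2 hx]; exact CharTwo.add_self_eq_zero v)
    set y := x * h with hy
    have hTy : ∀ v, T y v = v := fun v => by rw [hy, hTx, hx, hh v, add_zero]
    have hb : y * y * (y * y) = 1 := by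
      by_contra hne
      obtain ⟨l, hl1, hl2⟩ := exists_order_four hP hne
      have hbA : (y * y) ^ l ∈ A := hW1 _ (pow_mem (hxxC y) l) hl2
      have := hTy (f ((y * y) ^ l))
      rw [hT _ hbA] at this
      have h0 : (⟨cm ((y * y) ^ l) y, hbA.2.2 y⟩ : ↥Z) = 1 :=
        Subtype.ext ((cm_eq_one_iff _ _).2 (by
          rw [← pow_two, ← pow_mul, ← pow_succ', ← pow_succ]))
      rw [h0, hi1] at this
      exact hl1 (hZc _ (hfker _ hbA this.symm))
    have hyy : y * y = 1 := hfix _ hb (by rw [map_mul, hfx])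
    have hyZ : y ∈ Z := hinv hyy
    have hT' : T y (1 : (GaloisField 2 n)) = 0 := by
      rw [← hi1]
      exact congrArg i (Subtype.ext ((cm_eq_one_iff _ _).2 (hZmem hyZ _)))
    rw [hTy] at hT'
    exact one_ne_zero hT'
  -- exponent four
  push Not at h8
  have hCA : ∀ d ∈ C, d ∈ A := fun d hd => hW1 d hd (h8 d hd)
  have hsqA : ∀ x : P, x * x ∈ A := fun x => hCA _ (hxxC x)
  have hcmA : ∀ y x : P, cm y x ∈ A := fun y x => hCA _ (hcmsquares y x)
  have hTker : ∀ x, (∀ v, T x v = 0) → x ∈ A := by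
    let P₀ : Subgroup P := Subgroup.centralizer (A : Set P)
    have hmem : ∀ x, x ∈ P₀ ↔ ∀ a ∈ A, a * x = x * a := fun x => Subgroup.mem_centralizer_iff
    have hkP₀ : ∀ x ∈ P₀, k x ∈ P₀ := fun x hx => (hmem _).2 fun a ha => by
      obtain ⟨kA, hkA'⟩ := exists_restrict k A hkA
      obtain ⟨a', ha'⟩ := kA.surjective ⟨a, ha⟩
      have e : k (a' : P) = a := by
        have := hkA' 1 a'
        rw [pow_one, pow_one, ha'] at this
        exact this.symm
      rw [← e, ← map_mul, ← map_mul, (hmem x).1 hx a' a'.2]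
    have hab := abelian_of_central hP k hk P₀ hkP₀ (a := a₁)
      ((hmem _).2 fun a ha => hAcomm a ha a₁ ha₁) (fun h hh => ((hmem h).1 hh a₁ ha₁).symm) ha₁sq
    intro x hx
    refine hCA x (hmemC.2 fun w hw => hab w ((hmem w).2 fun a ha => (hmemC.1 ha.1 w hw).symm) x
      ((hmem x).2 fun a ha => ?_))
    have h := hx (f a)
    rw [hT a ha] at h
    exact (cm_eq_one_iff a x).1 (hi0 _ _ h)
  have hTA : ∀ x ∈ A, ∀ v, T x v = 0 := fun x hx v => by
    rw [← hi1]
    exact congrArg i (Subtype.ext ((cm_eq_one_iff _ _).2 (hAcomm _ (hsA v) _ hx)))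
  let β : P → (GaloisField 2 n) := fun x => f (x * x)
  let γ : P → P → (GaloisField 2 n) := fun x y => f (cm y x)
  have hTβ : ∀ x, T x (β x) = 0 := fun x => by
    show T x (f (x * x)) = 0
    rw [hT _ (hsqA x), ← hi1]
    exact congrArg i (Subtype.ext ((cm_eq_one_iff _ _).2 (mul_assoc x x x)))
  have hcmz : ∀ a ∈ A, ∀ x, f (a * cm a x) = f a := fun a ha x => by
    rw [hfadd a ha _ (hZA (ha.2.2 x)), hfZ _ (ha.2.2 x), add_zero]
  have hβ : ∀ x y, β (x * y) = β x + β y + γ x y := fun x y => by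
    show f (x * y * (x * y)) = f (x * x) + f (y * y) + f (cm y x)
    rw [show x * y * (x * y) = x * x * (y * y) * (cm y x * cm (cm y x) y) by simp [cm, mul_assoc],
      hfadd _ (mul_mem (hsqA x) (hsqA y)) _ (mul_mem (hcmA y x) (hZA ((hcmA y x).2.2 y))),
      hfadd _ (hsqA x) _ (hsqA y), hcmz _ (hcmA y x)]
  have hγr : ∀ x y y', γ x (y * y') = γ x y + γ x y' := fun x y y' => by
    show f (cm (y * y') x) = f (cm y x) + f (cm y' x)
    rw [show cm (y * y') x = cm y x * cm (cm y x) y' * cm y' x by simp [cm, mul_assoc],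
      hfadd _ (mul_mem (hcmA y x) (hZA ((hcmA y x).2.2 y'))) _ (hcmA y' x), hcmz _ (hcmA y x)]
  have hγl : ∀ x x' y, γ (x * x') y = γ x y + γ x' y := fun x x' y => by
    show f (cm y (x * x')) = f (cm y x) + f (cm y x')
    rw [show cm y (x * x') = cm y x' * (cm y x * cm (cm y x) x') by simp [cm, mul_assoc],
      hfadd _ (hcmA y x') _ (mul_mem (hcmA y x) (hZA ((hcmA y x).2.2 x'))), hcmz _ (hcmA y x), add_comm]
  have hβA : ∀ a ∈ A, β a = 0 := fun a ha => hfZ _ ha.2.1
  have hγA : ∀ a ∈ A, ∀ y, γ a y = 0 ∧ γ y a = 0 := fun a ha y => by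
    refine ⟨?_, hfZ _ (ha.2.2 y)⟩
    show f (cm y a) = 0
    rw [show cm y a = (cm a y)⁻¹ by simp [cm, mul_assoc]]
    exact hfZ _ (inv_mem (ha.2.2 y))
  -- components of `T`
  have hex : ∀ x, ∃ co : ((GaloisField 2 n) ≃+* (GaloisField 2 n)) → (GaloisField 2 n), ∀ v, T x v = ∑ σ, co σ * σ v := fun x => by
    obtain ⟨co, hco⟩ := Field.exists_sum_aut (AddMonoidHom.mk' (T x) (hTv x))
    exact ⟨co, hco⟩
  choose d hd using hex
  have hdadd : ∀ x y σ, d (x * y) σ = d x σ + d y σ := fun x y σ => by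
    refine congrFun (coeff_unique (d := d (x * y)) (d' := fun σ => d x σ + d y σ) fun v => ?_) σ
    rw [← hd, hTx, hd, hd, ← Finset.sum_add_distrib]
    simp [add_mul]
  have hdk : ∀ x σ, d (k x) σ = c / σ c * d x σ := fun x σ => by
    have h := congrFun (coeff_unique (d := fun σ => d (k x) σ * σ c) (d' := fun σ => c * d x σ) fun v => ?_) σ
    · replace h : d (k x) σ * σ c = c * d x σ := h
      rw [div_mul_eq_mul_div, ← h, mul_div_cancel_right₀ _ ((map_ne_zero σ).2 hc0)]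
    · calc ∑ σ, d (k x) σ * σ c * σ v = T (k x) (c * v) := by
            rw [hd]; exact Finset.sum_congr rfl fun σ _ => by rw [map_mul, mul_assoc]
        _ = ∑ σ, c * d x σ * σ v := by
            rw [hTk, hd, Finset.mul_sum]; exact Finset.sum_congr rfl fun σ _ => by rw [mul_assoc]
  have hdA : ∀ x, x ∈ A ↔ ∀ σ, d x σ = 0 := fun x => by
    refine ⟨fun hx σ => congrFun (coeff_unique (d := d x) (d' := fun _ => 0) fun v => ?_) σ,
      fun h => hTker x fun v => by rw [hd]; simp [h]⟩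
    rw [← hd, hTA x hx]
    simp
  have hd1 : ∀ σ, d 1 σ = 0 := (hdA 1).1 (one_mem _)
  have hdinv : ∀ x σ, d x⁻¹ σ = - d x σ := fun x σ =>
    eq_neg_of_add_eq_zero_left (by rw [← hdadd, inv_mul_cancel, hd1])
  have hdfun : ∀ x y, d (x * y) = d x + d y := fun x y => funext (hdadd x y)
  let D : AddSubgroup (((GaloisField 2 n) ≃+* (GaloisField 2 n)) → (GaloisField 2 n)) :=
    { carrier := Set.range d
      zero_mem' := ⟨1, funext hd1⟩
      add_mem' := by rintro _ _ ⟨x, rfl⟩ ⟨y, rfl⟩; exact ⟨x * y, hdfun x y⟩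
      neg_mem' := by rintro _ ⟨x, rfl⟩; exact ⟨x⁻¹, funext (hdinv x)⟩ }
  have hexE : ∀ x σ, ∃ y, d y = Pi.single σ (d x σ) := fun x σ =>
    hc.project D (by rintro _ ⟨z, rfl⟩; exact ⟨k z, funext (hdk z)⟩) ⟨x, rfl⟩ σ
  choose E hE using hexE
  let Single : P → ((GaloisField 2 n) ≃+* (GaloisField 2 n)) → Prop := fun x σ => ∀ τ, τ ≠ σ → d x τ = 0
  have hES : ∀ x σ, Single (E x σ) σ := fun x σ τ hτ => by rw [hE, Pi.single_eq_of_ne hτ]
  have hEv : ∀ x σ, d (E x σ) σ = d x σ := fun x σ => by rw [hE, Pi.single_eq_same]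
  have hSmul : ∀ x y σ, Single x σ → Single y σ → Single (x * y) σ := fun x y σ hx hy τ hτ => by
    rw [hdadd, hx τ hτ, hy τ hτ, add_zero]
  have hSA : ∀ x σ, Single x σ → d x σ = 0 → x ∈ A := fun x σ hx h0 => (hdA x).2 fun τ => by
    by_cases h : τ = σ
    · rw [h]; exact h0
    · exact hx τ h
  have hST : ∀ x σ, Single x σ → ∀ v, T x v = d x σ * σ v := fun x σ hx v => by
    rw [hd, Finset.sum_eq_single σ (fun τ _ hτ => by rw [hx τ hτ, zero_mul])
      (fun h => absurd (Finset.mem_univ _) h)]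
  have hβS : ∀ x σ, Single x σ → β x = 0 := fun x σ hx => by
    by_cases h0 : d x σ = 0
    · exact hβA x (hSA x σ hx h0)
    · have := hTβ x
      rw [hST x σ hx] at this
      exact (map_eq_zero σ).1 ((mul_eq_zero.1 this).resolve_left h0)
  -- no scalar component
  have hnoOne : ∀ x, d x 1 = 0 := by
    intro x
    by_contra h0
    set x₁ := E x 1 with hx₁
    have hk'1 : d (k' x₁) = d x₁ := by
      subst hpw
      clear hkm hfix hk'A
      induction pw with
      | zero => simp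
      | succ pw ih =>
        rw [pow_apply_succ]
        funext τ
        rw [hdk, ih]
        by_cases h : τ = 1
        · subst h; simp [div_self hc0]
        · rw [hES x 1 τ h, mul_zero]
    obtain ⟨h, hh, hfx⟩ := exists_fixed_coset m hm P hP k' hkm A hk'A x₁ ((hdA _).2 fun τ => by
      rw [hdadd, hdinv, hk'1, neg_add_cancel])
    have hyy : x₁ * h * (x₁ * h) ∈ Z := hfker _ (hsqA _) (hβS _ 1 (hSmul _ _ _ (hES x 1)
      fun τ _ => (hdA h).1 hh τ))
    have h1 : x₁ * h * (x₁ * h) = 1 := hfix _ (hZc _ hyy) (by rw [map_mul, hfx])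
    have := mul_mem (hZA (hinv h1)) (inv_mem hh)
    rw [mul_inv_cancel_right] at this
    have h2' := (hdA x₁).1 this 1
    rw [hEv] at h2'
    exact h0 h2'
  have hσne : ∀ x σ, Single x σ → d x σ ≠ 0 → σ ≠ 1 := fun x σ _ h e => h (e ▸ hnoOne x)
  have hfinv : ∀ a ∈ A, f a⁻¹ = f a := fun a ha => by
    have := hfadd a ha a⁻¹ (inv_mem ha)
    rw [mul_inv_cancel, hfZ 1 (one_mem _), eq_comm, CharTwo.add_eq_zero] at this
    exact this.symm
  have hsym : ∀ x y, γ x y = γ y x := fun x y => by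
    show f (cm y x) = f (cm x y)
    rw [show cm y x = (cm x y)⁻¹ by simp [cm, mul_assoc], hfinv _ (hcmA x y)]
  -- the basic identity
  have hid : ∀ x y, T x (γ x y) + γ x y = T y (β x) := by
    intro x y
    have h1 : γ x y = f (cm x y) := hsym x y
    have h2' : cm (x * x) y = cm x y * cm (cm x y) x * cm x y := by simp [cm, mul_assoc]
    have hc1 : cm x y * cm x y ∈ Z := (hcmA x y).2.1
    have hc2 : cm (cm x y) x ∈ Z := (hcmA x y).2.2 x
    show T x (γ x y) + γ x y = T y (f (x * x))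
    rw [hT _ (hsqA x), h1, hT _ (hcmA x y), hfdef _ hc1, ← hiadd]
    refine congrArg i (Subtype.ext ?_)
    show cm (cm x y) x * (cm x y * cm x y) = cm (x * x) y
    rw [h2', ← mul_assoc, ← hZmem hc2 (cm x y)]
  have hfixγ : ∀ x σ, Single x σ → ∀ y, d x σ * σ (γ x y) = γ x y := fun x σ hx y => by
    have := hid x y
    rw [hST x σ hx, hβS x σ hx, hT0, CharTwo.add_eq_zero] at this
    exact this
  have hne0 : ∀ x σ, Single x σ → ∀ y, γ x y ≠ 0 → d x σ ≠ 0 := fun x σ hx y h h0 =>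
    h (hγA x (hSA x σ hx h0) y).1
  have hscale : ∀ x σ, Single x σ → ∀ x', Single x' σ → ∀ y τ, Single y τ → γ x y ≠ 0 →
      γ x' y = d x' σ / d x σ * (d x' σ / d x σ) * γ x y ∧
      σ (d x' σ / d x σ) * σ (d x' σ / d x σ) = d x' σ / d x σ ∧ τ (d x' σ / d x σ) = d x' σ / d x σ := by
    intro x σ hx x' hx' y τ hy hg
    have hw : d x σ ≠ 0 := hne0 x σ hx y hg
    have e1 := hfixγ x σ hx y
    have e2 := hfixγ x' σ hx' y
    have e3 := hfixγ (x * x') σ (hSmul x x' σ hx hx') y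
    rw [hγl, hdadd, map_add] at e3
    have e4 : d x σ * σ (γ x' y) = d x' σ * σ (γ x y) :=
      CharTwo.add_eq_zero.1 (by linear_combination e3 - e1 - e2)
    have e5 : σ (γ x y) = γ x y / d x σ := by rw [eq_div_iff hw]; linear_combination e1
    have hg' : γ x' y = d x' σ / d x σ * (d x' σ / d x σ) * γ x y := by
      have h : d x σ * γ x' y = d x' σ * (d x' σ * σ (γ x y)) := by linear_combination d x' σ * e4 - d x σ * e2
      rw [e5] at h
      field_simp at h ⊢
      linear_combination h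
    refine ⟨hg', ?_, ?_⟩
    · have h := e4
      rw [hg', map_mul, map_mul, e5] at h
      rcases eq_or_ne (d x' σ) 0 with h0 | h0
      · simp [h0]
      refine mul_right_cancel₀ hg ?_
      field_simp at h ⊢
      linear_combination h
    · refine sq_inj (mul_right_cancel₀ hg ?_)
      have f1 := hfixγ y τ hy x
      have f2 := hfixγ y τ hy x'
      rw [hsym] at f1 f2
      rw [hg', map_mul, map_mul] at f2
      linear_combination f2 - τ (d x' σ / d x σ) * τ (d x' σ / d x σ) * f1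
  -- the only possible pairing
  have hpair : ∀ x σ y τ, Single x σ → Single y τ → γ x y ≠ 0 → Nat.card (GaloisField 2 n) = 64 ∧
      (((∀ v, σ v = v ^ 8) ∧ ∀ v, τ v = v ^ 4) ∨ ((∀ v, σ v = v ^ 4) ∧ ∀ v, τ v = v ^ 8)) := by
    intro x σ y τ hx hy hg
    have hx0 : d x σ ≠ 0 := hne0 x σ hx y hg
    have hy0 : d y τ ≠ 0 := hne0 y τ hy x (hsym x y ▸ hg)
    have hkS : ∀ z ρ, Single z ρ → Single (k z) ρ := fun z ρ hz ρ' hρ' => by rw [hdk, hz ρ' hρ', mul_zero]
    obtain ⟨-, a1, a2⟩ := hscale x σ hx (k x) (hkS x σ hx) y τ hy hg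
    obtain ⟨-, b1, b2⟩ := hscale y τ hy (k y) (hkS y τ hy) x σ hx (hsym x y ▸ hg)
    rw [hdk, mul_div_cancel_right₀ _ hx0] at a1 a2
    rw [hdk, mul_div_cancel_right₀ _ hy0] at b1 b2
    exact hc.pair σ τ (hσne x σ hx hx0) (hσne y τ hy hy0) a2 b2 a1 b1
  have hgen : ∀ (S : Set ((GaloisField 2 n) ≃+* (GaloisField 2 n))),
      (∀ x σ y τ, Single x σ → Single y τ → γ x y ≠ 0 → σ ∈ S ∧ τ ∈ S) →
      ∀ (l : ℕ) (x : P), (Finset.univ.filter fun σ => d x σ ≠ 0).card ≤ l → (∀ σ ∈ S, d x σ = 0) →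
        β x = 0 ∧ ∀ y τ, Single y τ → γ x y = 0 := by
    intro S hS l
    induction l with
    | zero =>
      intro x hx _
      have hxA : x ∈ A := (hdA x).2 fun σ => by
        by_contra h
        have := Finset.card_pos.2 (⟨σ, by simp [h]⟩ : (Finset.univ.filter fun σ => d x σ ≠ 0).Nonempty)
        omega
      exact ⟨hβA x hxA, fun y _ _ => (hγA x hxA y).1⟩
    | succ l ih =>
      intro x hx hxS
      by_cases hxA : x ∈ A
      · exact ⟨hβA x hxA, fun y _ _ => (hγA x hxA y).1⟩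
      obtain ⟨σ, hσ⟩ : ∃ σ, d x σ ≠ 0 := by
        by_contra h
        push Not at h
        exact hxA ((hdA x).2 h)
      set e := E x σ with he
      have hd' : ∀ τ, d (x * e⁻¹) τ = if τ = σ then 0 else d x τ := fun τ => by
        rw [hdadd, hdinv]
        split_ifs with h
        · rw [h, he, hEv, add_neg_cancel]
        · rw [he, hES x σ τ h, neg_zero, add_zero]
      have hcard : (Finset.univ.filter fun τ => d (x * e⁻¹) τ ≠ 0).card ≤ l := by
        refine Nat.le_of_lt_succ (lt_of_lt_of_le (Finset.card_lt_card ?_) hx)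
        refine Finset.ssubset_iff_of_subset (fun τ hτ => ?_) |>.2 ⟨σ, by simp [hσ], by simp [hd']⟩
        simp only [Finset.mem_filter, Finset.mem_univ, true_and, hd'] at hτ ⊢
        split_ifs at hτ with h
        · exact absurd rfl hτ
        · exact hτ
      obtain ⟨h1, h2'⟩ := ih (x * e⁻¹) hcard (fun τ hτ => by rw [hd']; split_ifs; rfl; exact hxS τ hτ)
      have hes : ∀ y τ, Single y τ → γ e y = 0 := fun y τ hy => by
        by_contra h
        exact hσ (hxS σ (hS e σ y τ (hES x σ) hy h).1)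
      have hxe : x = x * e⁻¹ * e := (inv_mul_cancel_right x e).symm
      refine ⟨?_, fun y τ hy => ?_⟩
      · rw [hxe, hβ, h1, hβS e σ (hES x σ), h2' e σ (hES x σ), add_zero, add_zero]
      · rw [hxe, hγl, h2' y τ hy, hes y τ hy, add_zero]
  obtain ⟨x₁, σ, y₁, τ, hx₁, hy₁, hg₀, h64, hσ8, hτ4⟩ : ∃ x σ y τ, Single x σ ∧ Single y τ ∧ γ x y ≠ 0 ∧
      Nat.card (GaloisField 2 n) = 64 ∧ (∀ v, σ v = v ^ 8) ∧ ∀ v, τ v = v ^ 4 := by
    by_contra hno
    apply hx₀
    refine hfker _ (hsqA x₀) ((hgen ∅ (fun x σ y τ hx hy hg => ?_) _ x₀ le_rfl (by simp)).1)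
    exfalso
    obtain ⟨h64, ⟨a, b⟩ | ⟨a, b⟩⟩ := hpair x σ y τ hx hy hg
    · exact hno ⟨x, σ, y, τ, hx, hy, hg, h64, a, b⟩
    · exact hno ⟨y, τ, x, σ, hy, hx, hsym x y ▸ hg, h64, b, a⟩
  have honly : ∀ x σ' y τ', Single x σ' → Single y τ' → γ x y ≠ 0 → σ' ∈ ({σ, τ} : Set _) ∧ τ' ∈ ({σ, τ} : Set _) := by
    intro x σ' y τ' hx hy hg
    rcases (hpair x σ' y τ' hx hy hg).2 with ⟨a, b⟩ | ⟨a, b⟩
    · exact ⟨Or.inl (RingEquiv.ext fun v => by rw [a, hσ8]), Or.inr (RingEquiv.ext fun v => by rw [b, hτ4])⟩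
    · exact ⟨Or.inr (RingEquiv.ext fun v => by rw [a, hτ4]), Or.inl (RingEquiv.ext fun v => by rw [b, hσ8])⟩
  have hστ : σ ≠ τ := by
    rintro rfl
    have h := hβ x₁ y₁
    rw [hβS _ σ (hSmul _ _ _ hx₁ hy₁), hβS _ σ hx₁, hβS _ σ hy₁, zero_add, zero_add] at h
    exact hg₀ h.symm
  have hval : ∀ x, β x ≠ 0 → (β x / γ x₁ y₁) ^ 21 = 1 := by
    intro x hx
    set u := E x σ
    set w := E x τ
    set x' := x * (u * w)⁻¹ with hx'
    obtain ⟨h1, h2'⟩ := hgen {σ, τ} honly _ x' le_rfl (by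
      rintro ρ (rfl | rfl)
      · rw [hx', hdadd, hdinv, hdadd, hEv, hES x τ _ hστ, add_zero, add_neg_cancel]
      · rw [hx', hdadd, hdinv, hdadd, hEv, hES x σ _ hστ.symm, zero_add, add_neg_cancel])
    have hb : β x = γ u w := by
      conv_lhs => rw [show x = x' * (u * w) from (inv_mul_cancel_right x (u * w)).symm]
      rw [hβ x' (u * w), hβ u w, h1, hβS u σ (hES x σ), hβS w τ (hES x τ), hγr, h2' u σ (hES x σ), h2' w τ (hES x τ),
        zero_add, zero_add, zero_add, add_zero]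
    rw [hb] at hx ⊢
    obtain ⟨e1, -, e2⟩ := hscale x₁ σ hx₁ u (hES x σ) y₁ τ hy₁ hg₀
    set r := d u σ / d x₁ σ
    have hu : d u σ ≠ 0 := hne0 u σ (hES x σ) w hx
    have hr : r ≠ 0 := div_ne_zero hu (hne0 x₁ σ hx₁ y₁ hg₀)
    have hg1 : γ y₁ u ≠ 0 := by
      rw [hsym, e1]; exact mul_ne_zero (mul_ne_zero hr hr) hg₀
    obtain ⟨e3, -, e4⟩ := hscale y₁ τ hy₁ w (hES x τ) u σ (hES x σ) hg1
    set r' := d w τ / d y₁ τ
    rw [hsym u w, e3, hsym y₁ u, e1]
    rw [hτ4] at e2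
    rw [hσ8] at e4
    have hr' : r' ≠ 0 := fun e => hx (by rw [hsym, e3, e, mul_zero, zero_mul])
    have hr3 : r ^ 3 = 1 := mul_left_cancel₀ hr (by rw [mul_one, ← pow_succ']; exact e2)
    have hr7 : r' ^ 7 = 1 := mul_left_cancel₀ hr' (by rw [mul_one, ← pow_succ']; exact e4)
    rw [← mul_assoc, mul_div_cancel_right₀ _ hg₀]
    calc (r' * r' * (r * r)) ^ 21 = (r' ^ 7) ^ 6 * (r ^ 3) ^ 14 := by ring
      _ = 1 := by rw [hr3, hr7, one_pow, one_pow, one_mul]
  have hall : ∀ v : GaloisField 2 n, v ≠ 0 → ∃ x, β x = v := by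
    intro v hv
    obtain ⟨a, ha, rfl⟩ := hj.surj v
    have hm : x₀ * x₀ * (x₀ * x₀) ∈ Z := (hsqA x₀).2.1
    obtain ⟨g, hg⟩ := htr _ a (fun h => hx₀ (hinv h)) (hZc _ hm) (fun h => hv (by rw [h]; exact hj.map_one)) ha
    refine ⟨g x₀, ?_⟩
    show f (g x₀ * g x₀) = j₀ a
    rw [hfdef _ (hsqA (g x₀)).2.1]
    show j₀ (g x₀ * g x₀ * (g x₀ * g x₀)) = _
    rw [← map_mul, ← map_mul, hg]
  obtain ⟨γu, hγu⟩ := IsCyclic.exists_ofOrder_eq_natCard (α := (GaloisField 2 n)ˣ)
  rw [Nat.card_units, h64] at hγu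
  have hp : ∀ v : GaloisField 2 n, v ≠ 0 → v ^ 21 = 1 := by
    have key : ∀ v : GaloisField 2 n, v ≠ 0 → (v / γ x₁ y₁) ^ 21 = 1 := fun v hv => by
      obtain ⟨x, rfl⟩ := hall v hv
      exact hval x hv
    intro v hv
    have h := key (v * γ x₁ y₁) (mul_ne_zero hv hg₀)
    rwa [mul_div_cancel_right₀ _ hg₀] at h
  have := orderOf_dvd_of_pow_eq_one (Units.ext (by simpa using hp (γu : GaloisField 2 n) γu.ne_zero) : γu ^ 21 = 1)
  rw [hγu] at this
  norm_num at this

end CfsgLib.Chev.Suz2Gen
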